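import Cfsg.Agent.Lib.Chev.F4Graph.Cyclo
import Cfsg.Agent.Lib.Chev.SylF4
import Cfsg.Agent.Lib.Chev.SylowPoly

/-!
Elements of order a product of two primes in F4 over a field of characteristic two, inside twisted tori and inside
the products of a twisted torus element with a root element.
-/

set_option autoImplicit false
set_option linter.unusedSectionVars false
set_option maxRecDepth 100000

namespace Cfsg.Lib.Chev.F4Graph

open Cfsg.Lie Cfsg.Lib.Chev

private theorem cF : Cert chevF4 tblF4 := fullCertF4.comm.cert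

/-! ### Data -/

def s126_1 : SylTor := ⟨[0, 1, 2], [-1], [[[1], [2], [3], [2]]], [0]⟩
def s126_2 : SylTor := ⟨[0, 1, 2], [1], [[[1], [0], [1], [0]]], [0]⟩
def s126_6 : SylTor := ⟨[0, 1, 2], [1, -1], [[[1, 0], [1, 1], [0, 2], [0, 0]]], [0]⟩
def s123_1 : SylTor := ⟨[0, 1, 2, 3, 0, 1, 2, 1, 0], [-1], [[[1], [3], [5], [3]]], [0]⟩
def s123_2 : SylTor := ⟨[0, 1, 2, 3, 0, 1, 2, 1, 0], [1], [[[1], [1], [1], [1]]], [0]⟩
def s123_3 : SylTor := ⟨[0, 1, 2, 3, 0, 1, 2, 1, 0], [1, 1], [[[1, 0], [1, -1], [2, 0], [0, 0]]], [0]⟩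
def s124_1 : SylTor := ⟨[1, 2, 0, 1, 2], [-1], [[[1], [2], [3], [2]]], [0]⟩
def s124_2 : SylTor := ⟨[1, 2, 0, 1, 2], [1], [[[0], [1], [1], [0]]], [1]⟩
def s124_4 : SylTor := ⟨[1, 2, 0, 1, 2], [1, 0], [[[1, 0], [1, 0], [1, 1], [0, 0]]], [0]⟩
def sRoot1 : SylTor := ⟨[], [-1], [[[1], [0], [0], [0]]], [0]⟩
def sRoot2 : SylTor := ⟨[0], [1], [[[1], [0], [0], [0]]], [0]⟩
def sRoot3 : SylTor := ⟨[0, 1], [1, 1], [[[1, 0], [1, 1], [0, 0], [0, 0]]], [0]⟩
def sRoot4 : SylTor := ⟨[1, 2], [1, 0], [[[0, 0], [1, 0], [1, 1], [0, 0]]], [1]⟩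

/-- A torus element of the data commutes with the fixed root zero. -/
noncomputable def chkFixZero (S : SylTor) : Bool :=
  Nat.beq (wperm tblF4 S.w 0) 0 && allBelow (fun k => decide (S.bc tblF4 0 0 k = 0)) S.phi.length

theorem chk_syl : (chkSyl tblF4 1 s126_1 && (chkSyl tblF4 1 s126_2 && (chkSyl tblF4 1 s126_6 &&
    (chkSyl tblF4 1 s123_1 && (chkSyl tblF4 1 s123_2 && (chkSyl tblF4 1 s123_3 &&
    (chkSyl tblF4 1 s124_1 && (chkSyl tblF4 1 s124_2 && (chkSyl tblF4 1 s124_4 &&
    (chkSyl tblF4 1 sRoot1 && (chkSyl tblF4 1 sRoot2 && (chkSyl tblF4 1 sRoot3 &&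
    (chkSyl tblF4 1 sRoot4 && chkSyl tblF4 1 s126_6))))))))))))) = true := by decide +kernel

theorem chk_fix : (chkFixZero sRoot1 && (chkFixZero sRoot2 && (chkFixZero sRoot3 && (chkFixZero sRoot4 &&
    chkFixZero s126_6)))) = true := by decide +kernel

/-- The values of the low coefficients. -/
def cycOf (d : ℕ) : List ℤ :=
  if d = 1 then [-1] else if d = 2 then [1] else if d = 3 then [1, 1] else if d = 4 then [1, 0] else
  if d = 6 then [1, -1] else if d = 8 then [1, 0, 0, 0] else [1, 0, -1, 0]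

/-- The value of a cyclotomic polynomial. -/
noncomputable def cycVal (d : ℕ) (q : ℤ) : ℤ :=
  q ^ (cycOf d).length + sumBelow (fun k => nth 0 (cycOf d) k * q ^ k) (cycOf d).length

theorem sylTor_val {S : SylTor} {d : ℕ} (h : S.phi = cycOf d) (q : ℤ) : S.val q = cycVal d q := by
  simp only [SylTor.val, cycVal, h]

theorem dvd_cycVal {s : ℕ} [Fact s.Prime] {q d : ℕ} (hd : d ∈ ({1, 2, 3, 4, 6, 8, 12} : Finset ℕ))
    (h : orderOf (q : ZMod s) = d) : (s : ℤ) ∣ cycVal d q := by
  rw [← ZMod.intCast_zmod_eq_zero_iff_dvd]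
  have hp := h ▸ pow_orderOf_eq_one (q : ZMod s)
  have hne : ∀ m, 0 < m → m < d → (q : ZMod s) ^ m ≠ 1 := fun m h1 h2 e => by
    have := Nat.le_of_dvd h1 (orderOf_dvd_iff_pow_eq_one.2 e)
    omega
  simp only [Finset.mem_insert, Finset.mem_singleton] at hd
  simp only [cycVal, sumBelow_eq]
  rcases hd with rfl | rfl | rfl | rfl | rfl | rfl | rfl <;>
    simp only [cycOf, nth_eq, List.length_cons, List.length_nil, Nat.reduceEqDiff, OfNat.ofNat_ne_one, if_true,
      if_false, Finset.sum_range_succ, Finset.sum_range_zero, zero_add, List.getD_cons_zero, List.getD_cons_succ,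
      Nat.reduceAdd, pow_zero, pow_one, mul_one] <;> push_cast <;>
    generalize (q : ZMod s) = x at hp hne ⊢
  · linear_combination hp
  · refine (mul_eq_zero.1 (show (x - 1) * (x + 1) = 0 by linear_combination hp)).resolve_left
      (sub_ne_zero.2 (by simpa using hne 1 (by norm_num) (by norm_num))) |> fun e => by linear_combination e
  · refine (mul_eq_zero.1 (show (x - 1) * (x ^ 2 + x + 1) = 0 by linear_combination hp)).resolve_left
      (sub_ne_zero.2 (by simpa using hne 1 (by norm_num) (by norm_num))) |> fun e => by linear_combination e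
  · refine (mul_eq_zero.1 (show (x ^ 2 - 1) * (x ^ 2 + 1) = 0 by linear_combination hp)).resolve_left
      (sub_ne_zero.2 (hne 2 (by norm_num) (by norm_num))) |> fun e => by linear_combination e
  · have h3 := (mul_eq_zero.1 (show (x ^ 3 - 1) * (x ^ 3 + 1) = 0 by linear_combination hp)).resolve_left
      (sub_ne_zero.2 (hne 3 (by norm_num) (by norm_num)))
    have h2 : x + 1 ≠ 0 := fun e => hne 2 (by norm_num) (by norm_num) (by linear_combination (x - 1) * e)
    have := (mul_eq_zero.1 (show (x + 1) * (x ^ 2 - x + 1) = 0 by linear_combination h3)).resolve_left h2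
    linear_combination this
  · refine (mul_eq_zero.1 (show (x ^ 4 - 1) * (x ^ 4 + 1) = 0 by linear_combination hp)).resolve_left
      (sub_ne_zero.2 (hne 4 (by norm_num) (by norm_num))) |> fun e => by linear_combination e
  · have h6 := (mul_eq_zero.1 (show (x ^ 6 - 1) * (x ^ 6 + 1) = 0 by linear_combination hp)).resolve_left
      (sub_ne_zero.2 (hne 6 (by norm_num) (by norm_num)))
    have h2 : x ^ 2 + 1 ≠ 0 := fun e => hne 4 (by norm_num) (by norm_num) (by linear_combination (x ^ 2 - 1) * e)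
    have := (mul_eq_zero.1 (show (x ^ 2 + 1) * (x ^ 4 - x ^ 2 + 1) = 0 by linear_combination h6)).resolve_left h2
    linear_combination this

variable {L : Type*} [Field L]

/-- A parameter of prime order from an eigenvector. -/
theorem exists_eigen {a : ℕ} (ha : 0 < a) {S : SylTor} (hS : SylOK chevF4 tblF4 a S) {r q : ℕ} (hr : r.Prime)
    (hval : (r : ℤ) ∣ S.val q) {u : Lˣ} (hu : orderOf u = r) :
    ∃ c : Fin chevF4.rank → Lˣ, orderOf c = r ∧ QAct S.w c q ∧
      ∀ s < chevF4.nroots, (∀ k < S.phi.length, S.bc tblF4 0 s k = 0) → uchr cF c s = 1 := by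
  haveI := Fact.mk hr
  let c : Fin chevF4.rank → Lˣ := fun j => u ^ S.xval q 0 j
  have hchr : ∀ s, uchr cF c s = u ^ S.bval tblF4 q 0 s := by
    intro s
    rw [bval_eq cF]
    simp only [uchr, c, ← zpow_mul]
    rw [Fin.prod_univ_eq_prod_range (fun j => u ^ (S.xval q 0 j * tblF4.cartan j s)) chevF4.rank]
    induction Finset.range chevF4.rank using Finset.induction with
    | empty => simp
    | insert b t hb ih => rw [Finset.prod_insert hb, Finset.sum_insert hb, zpow_add, ih]
  have hur : u ^ r = 1 := hu ▸ pow_orderOf_eq_one u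
  refine ⟨c, orderOf_eq_prime (funext fun j => ?_) (fun h => ?_), fun s hs => ?_, fun s hs h0 => ?_⟩
  · show (u ^ S.xval q 0 j) ^ r = 1
    rw [← zpow_natCast, ← zpow_mul, mul_comm, zpow_mul, zpow_natCast, hur, one_zpow]
  · have h1 : S.xval q 0 (nth 0 S.piv 0) = 1 := by
      rw [SylTor.xval, Finset.sum_eq_single 0
        (fun k hk hk0 => by rw [hS.unit 0 ha 0 ha k (Finset.mem_range.1 hk), if_neg (by simp [hk0]), zero_mul])
        (fun h => absurd (Finset.mem_range.2 hS.len_pos) h), hS.unit 0 ha 0 ha 0 hS.len_pos, if_pos ⟨rfl, rfl⟩,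
        pow_zero, one_mul]
    have h2 : u ^ S.xval q 0 (nth 0 S.piv 0) = 1 := congrFun h ⟨nth 0 S.piv 0, hS.piv_lt 0 ha⟩
    rw [h1, zpow_one] at h2
    rw [h2, orderOf_one] at hu
    exact hr.one_lt.ne hu
  · obtain ⟨k, hk⟩ := hval
    rw [hchr, hchr, bval_step cF hS q ha hs, hk, ← zpow_natCast, ← zpow_mul, zpow_sub, mul_comm (q : ℤ),
      show S.bc tblF4 0 s (S.phi.length - 1) * ((r : ℤ) * k) = (r : ℤ) * (S.bc tblF4 0 s (S.phi.length - 1) * k)
        by ring, zpow_mul u (r : ℤ), zpow_natCast u r, hur, one_zpow, inv_one, mul_one]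
  · rw [hchr, show S.bval tblF4 q 0 s = 0 from Finset.sum_eq_zero fun k hk => by
      rw [h0 k (Finset.mem_range.1 hk), zero_mul], zpow_zero]

theorem qact_mul {u : List ℕ} {a b : Fin chevF4.rank → Lˣ} {q : ℕ} (ha : QAct u a q) (hb : QAct u b q) :
    QAct u (a * b) q := fun r hr => by
  rw [uchr_mul, uchr_mul, ha r hr, hb r hr, mul_pow]

variable {F : Type*} [Field F] [Fintype F] [CharP F 2]

/-- The closure with the Frobenius of the smaller field. -/
noncomputable def frob (F : Type*) [Field F] [Fintype F] : AlgebraicClosure F →+* AlgebraicClosure F :=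
  (FiniteField.frobeniusAlgHom F (AlgebraicClosure F)).toRingHom

theorem frob_apply (x : AlgebraicClosure F) : frob F x = x ^ Fintype.card F := rfl

instance : CharP (AlgebraicClosure F) 2 :=
  charP_of_injective_algebraMap (algebraMap F (AlgebraicClosure F)).injective 2

/-- An element fixed by a word times the Frobenius is conjugate to one of the finite group of the same order. -/
theorem exists_realize {w : List ℕ} (hw : IsWord chevF4 w) {h : GL chevF4.Idx (AlgebraicClosure F)}
    (hh : h ∈ chevF4.group (AlgebraicClosure F)) {m : ℕ} (hm : orderOf h = m) (hfix : wnu cF (AlgebraicClosure F) w *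
      Matrix.GeneralLinearGroup.map (frob F) h * (wnu cF (AlgebraicClosure F) w)⁻¹ = h) :
    ∃ z : ↥(chevF4.group F), orderOf z = m := by
  haveI : Fact (Nat.Prime 2) := ⟨Nat.prime_two⟩
  obtain ⟨f, -, hf⟩ := FiniteField.card F 2
  set L := AlgebraicClosure F
  have hσ : frob F = iterateFrobenius L 2 (f : ℕ) := RingHom.ext fun x => by
    rw [frob_apply, hf, iterateFrobenius_def]
  set n := wnu cF L w
  obtain ⟨g, hg, hgn⟩ := lang_chev cF fullCertF4 (p := 2) (f := (f : ℕ)) (by rw [← hf]; exact Fintype.one_lt_card)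
    (1 : GL chevF4.Idx L) (fun x hx => by simpa using hx) (monomial_le_group cF (wnu_mem cF hw) : n ∈ _)
  have hσg : Matrix.GeneralLinearGroup.map (frob F) g = g * n := by
    rw [← hgn, hσ]; group
  have hconj : orderOf (g * h * g⁻¹) = m := by
    rw [← hm, ← MulAut.conj_apply, MulEquiv.orderOf_eq]
  obtain ⟨z, hz, hzx⟩ := descend_coprime cF fullCertF4 (frob F) (fun t => frob_apply t) inv_F4
    (Nat.coprime_one_left m) (mul_mem (mul_mem hg hh) (inv_mem hg))
    (show Matrix.GeneralLinearGroup.map (frob F) (g * h * g⁻¹) = g * h * g⁻¹ by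
      rw [map_mul, map_mul, map_inv, hσg]
      calc g * n * Matrix.GeneralLinearGroup.map (frob F) h * (g * n)⁻¹ =
          g * (n * Matrix.GeneralLinearGroup.map (frob F) h * n⁻¹) * g⁻¹ := by group
        _ = _ := by rw [hfix])
    (hconj ▸ pow_orderOf_eq_one _)
  refine ⟨⟨z, hz⟩, ?_⟩
  rw [← orderOf_injective (chevF4.group F).subtype Subtype.val_injective,
    ← orderOf_injective (Matrix.GeneralLinearGroup.map (n := chevF4.Idx) (algebraMap F L)) (map_gl_injective _)]
  exact (congrArg orderOf hzx).trans hconj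

theorem torus_fixed {w : List ℕ} (hw : IsWord chevF4 w) {c : Fin chevF4.rank → (AlgebraicClosure F)ˣ}
    (h : QAct w c (Fintype.card F)) : wnu cF (AlgebraicClosure F) w * Matrix.GeneralLinearGroup.map (frob F)
      (torusHom chevF4 tblF4 (AlgebraicClosure F) c) * (wnu cF (AlgebraicClosure F) w)⁻¹ =
      torusHom chevF4 tblF4 (AlgebraicClosure F) c := by
  obtain ⟨e, he, hchr⟩ := torus_word_conj cF hw (fun i => Units.map (frob F).toMonoidHom (c i))
  rw [map_torusHom cF, he]
  refine torusHom_congr fun s hs => ?_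
  have hs' := wperm_lt cF hw.reverse hs
  have hrev := wperm_reverse cF hw.reverse hs
  rw [List.reverse_reverse] at hrev
  rw [← hrev, hchr _ hs', ← coe_uchr cF c, h _ hs', Units.val_pow_eq_pow_val, ← frob_apply, coe_uchr]
  simp only [chr, map_prod, map_zpow₀]
  refine Finset.prod_congr rfl fun j hj => ?_
  simp [extend', Finset.mem_range.1 hj]

theorem exists_root_unity {r : ℕ} (hr : r.Prime) (hr2 : r ≠ 2) : ∃ u : (AlgebraicClosure F)ˣ, orderOf u = r := by
  haveI : NeZero (r : AlgebraicClosure F) := ⟨fun h => hr2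
    ((Nat.prime_dvd_prime_iff_eq Nat.prime_two hr).1 ((CharP.cast_eq_zero_iff _ 2 r).1 h)).symm⟩
  obtain ⟨ζ, hζ⟩ := HasEnoughRootsOfUnity.exists_primitiveRoot (AlgebraicClosure F) r
  refine ⟨Units.mk0 ζ (hζ.ne_zero hr.ne_zero), ?_⟩
  rw [← orderOf_units, Units.val_mk0]
  exact hζ.eq_orderOf.symm

/-- Two primes dividing the values of two sets of data with one word. -/
theorem exists_pair {a b : ℕ} (ha : 0 < a) (hb : 0 < b) {S S' : SylTor} (hS : SylOK chevF4 tblF4 a S)
    (hS' : SylOK chevF4 tblF4 b S') (hw : S'.w = S.w) {r s : ℕ} (hr : r.Prime) (hs : s.Prime) (hr2 : r ≠ 2)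
    (hs2 : s ≠ 2) (hrs : r ≠ s) (hrv : (r : ℤ) ∣ S.val (Fintype.card F))
    (hsv : (s : ℤ) ∣ S'.val (Fintype.card F)) : ∃ z : ↥(chevF4.group F), orderOf z = r * s := by
  obtain ⟨u, hu⟩ := exists_root_unity (F := F) hr hr2
  obtain ⟨v, hv⟩ := exists_root_unity (F := F) hs hs2
  obtain ⟨c, hc, hcq, -⟩ := exists_eigen ha hS hr hrv hu
  obtain ⟨d, hd, hdq, -⟩ := exists_eigen hb hS' hs hsv hv
  rw [hw] at hdq
  have hcd : orderOf (torusHom chevF4 tblF4 (AlgebraicClosure F) (c * d)) = r * s := by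
    rw [orderOf_injective _ torusHom_inj, (Commute.all c d).orderOf_mul_eq_mul_orderOf_of_coprime
      (by rw [hc, hd]; exact (Nat.coprime_primes hr hs).2 hrs), hc, hd]
  exact exists_realize hS.isWord
    (monomial_le_group cF (diag_le_monomial cF (by rw [← torusHom_range cF]; exact ⟨_, rfl⟩))) hcd
    (torus_fixed hS.isWord (qact_mul hcq hdq))

/-- An element of order twice a prime. -/
theorem exists_double {a : ℕ} (ha : 0 < a) {S : SylTor} (hS : SylOK chevF4 tblF4 a S) (h0 : chkFixZero S = true)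
    {s : ℕ} (hs : s.Prime) (hs2 : s ≠ 2) (hsv : (s : ℤ) ∣ S.val (Fintype.card F)) :
    ∃ z : ↥(chevF4.group F), orderOf z = 2 * s := by
  simp only [chkFixZero, Bool.and_eq_true, Nat.beq_eq, allBelow_iff, decide_eq_true_eq] at h0
  haveI : Fact (Nat.Prime 2) := ⟨Nat.prime_two⟩
  obtain ⟨v, hv⟩ := exists_root_unity (F := F) hs hs2
  obtain ⟨c, hc, hcq, hc0⟩ := exists_eigen ha hS hs hsv hv
  set L := AlgebraicClosure F
  have h00 : (0 : ℕ) < chevF4.nroots := by decide
  set t := torusHom chevF4 tblF4 L c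
  set x := xg cF 0 (1 : L)
  have hcomm : Commute x t := by
    have h1 := torusHom_conj_xg cF c h00 (1 : L)
    rw [← coe_uchr cF, hc0 0 h00 h0.2, Units.val_one, one_mul] at h1
    exact (mul_inv_eq_iff_eq_mul.1 h1).symm
  have hx : orderOf x = 2 := by
    refine orderOf_eq_prime ?_ fun e => ?_
    · rw [sq, xg_add, CharTwo.add_self_eq_zero, xg_zero]
    · exact one_ne_zero (xg_injective cF h00 (e.trans (xg_zero cF 0).symm))
  have ht : orderOf t = s := by rw [orderOf_injective _ torusHom_inj, hc]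
  have hxt : orderOf (x * t) = 2 * s := by
    rw [hcomm.orderOf_mul_eq_mul_orderOf_of_coprime
      (by rw [hx, ht]; exact (Nat.coprime_primes Nat.prime_two hs).2 (Ne.symm hs2)), hx, ht]
  refine exists_realize hS.isWord (mul_mem (xg_mem_group cF 0 _)
    (monomial_le_group cF (diag_le_monomial cF (by rw [← torusHom_range cF]; exact ⟨_, rfl⟩)))) hxt ?_
  have hxf : wnu cF L S.w * Matrix.GeneralLinearGroup.map (frob F) x * (wnu cF L S.w)⁻¹ = x := by
    obtain ⟨k, hk, hkt⟩ := wnu_conj_xg cF (F := L) hS.isWord h00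
    have hk1 : k = 1 := (mul_self_eq_one_iff.1 hk).elim id fun h => h.trans (CharTwo.neg_eq 1)
    rw [map_xg, map_one, hkt, hk1, one_mul, h0.1]
  rw [map_mul]
  calc wnu cF L S.w * (Matrix.GeneralLinearGroup.map (frob F) x * Matrix.GeneralLinearGroup.map (frob F) t) *
      (wnu cF L S.w)⁻¹ = (wnu cF L S.w * Matrix.GeneralLinearGroup.map (frob F) x * (wnu cF L S.w)⁻¹) *
        (wnu cF L S.w * Matrix.GeneralLinearGroup.map (frob F) t * (wnu cF L S.w)⁻¹) := by group
    _ = _ := by rw [hxf, torus_fixed hS.isWord hcq]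

end Cfsg.Lib.Chev.F4Graph
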