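import Cfsg.Agent.Lib.Chev.F4Graph.Absent
import Cfsg.Agent.Lib.Chev.F4Graph.Present
import Cfsg.Agent.Lib.Chev.OrderF4

/-!
When F4 over a field of characteristic two has an element of order a product of two primes.
-/

set_option autoImplicit false
set_option linter.unusedSectionVars false
set_option maxRecDepth 100000

namespace Cfsg.Lib.Chev.F4Graph

open Cfsg.Lie Cfsg.Lib.Chev

private theorem cF : Cert chevF4 tblF4 := fullCertF4.comm.cert

variable {F : Type*} [Field F] [Fintype F]

theorem group_order : Nat.card ↥(chevF4.group F) = Fintype.card F ^ (chevF4.nroots / 2) *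
    ((Fintype.card F ^ 2 - 1) * (Fintype.card F ^ 6 - 1) * (Fintype.card F ^ 8 - 1) * (Fintype.card F ^ 12 - 1)) := by
  have h := order_formula (F := F) cF fullCertF4 chkWeylF4 torusCertF4
    (R := (Nat.card F ^ 2 - 1) * (Nat.card F ^ 6 - 1) * (Nat.card F ^ 8 - 1) * (Nat.card F ^ 12 - 1))
    (polyF4 Nat.card_pos)
  have h1 : ∀ k, (![1, 1, 1, 1] : Fin 4 → ℕ) k = 1 := by decide
  have h2 : (∏ k, (Nat.card F - 1).gcd ((![1, 1, 1, 1] : Fin 4 → ℕ) k)) = 1 :=
    Finset.prod_eq_one fun k _ => by rw [h1, Nat.gcd_one_right]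
  erw [h2, one_mul] at h
  rw [h, Nat.card_eq_fintype_card]

/-- The orders of `q` modulo the odd primes dividing the order. -/
theorem ord_values [CharP F 2] {r : ℕ} [Fact r.Prime] (hr2 : r ≠ 2) (hr : r ∣ Nat.card ↥(chevF4.group F)) :
    orderOf (Fintype.card F : ZMod r) ∈ ({1, 2, 3, 4, 6, 8, 12} : Finset ℕ) := by
  haveI : Fact (Nat.Prime 2) := ⟨Nat.prime_two⟩
  have hp : r.Prime := Fact.out
  rw [group_order] at hr
  obtain ⟨f, -, hf⟩ := FiniteField.card F 2
  have hq : ¬ r ∣ Fintype.card F ^ (chevF4.nroots / 2) := by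
    rw [hf, ← pow_mul]
    exact fun h => hr2 ((Nat.prime_dvd_prime_iff_eq hp Nat.prime_two).1 (hp.dvd_of_dvd_pow h))
  have key : ∀ d, r ∣ Fintype.card F ^ d - 1 → orderOf (Fintype.card F : ZMod r) ∣ d := fun d h => by
    refine orderOf_dvd_of_pow_eq_one ?_
    rw [← ZMod.natCast_eq_zero_iff, Nat.cast_sub (Nat.one_le_pow _ _ Fintype.card_pos)] at h
    simpa [sub_eq_zero] using h
  simp only [Finset.mem_insert, Finset.mem_singleton]
  rcases (Nat.Prime.dvd_mul hp).1 hr with h | h
  · exact absurd h hq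
  rcases (Nat.Prime.dvd_mul hp).1 h with h | h
  rcases (Nat.Prime.dvd_mul hp).1 h with h | h
  rcases (Nat.Prime.dvd_mul hp).1 h with h | h
  all_goals
    have hd := key _ h
    have hle := Nat.le_of_dvd (by norm_num) hd
    interval_cases hk : orderOf (Fintype.card F : ZMod r) <;> first | omega | norm_num at hd

theorem orderOf_two_eq [CharP F 2] : orderOf (Fintype.card F : ZMod 2) = 0 := by
  haveI : Fact (Nat.Prime 2) := ⟨Nat.prime_two⟩
  obtain ⟨f, -, hf⟩ := FiniteField.card F 2
  have : (Fintype.card F : ZMod 2) = 0 := by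
    rw [hf, Nat.cast_pow, CharP.cast_eq_zero, zero_pow f.ne_zero]
  rw [this, orderOf_zero]

theorem sylOK {a : ℕ} {S : SylTor} (h : chkSyl tblF4 a S = true) : SylOK chevF4 tblF4 a S := sylOK_of_chk cF h

/-- An element of order twice an odd prime. -/
theorem present_double [CharP F 2] {s : ℕ} [Fact s.Prime] (hs2 : s ≠ 2)
    (hs : orderOf (Fintype.card F : ZMod s) ∈ ({1, 2, 3, 4, 6} : Finset ℕ)) :
    ∃ z : ↥(chevF4.group F), orderOf z = 2 * s := by
  have hsyl := chk_syl
  have hfix := chk_fix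
  simp only [Bool.and_eq_true] at hsyl hfix
  obtain ⟨-, -, h6, -, -, -, -, -, -, h1, h2, h3, h4, -⟩ := hsyl
  obtain ⟨f1, f2, f3, f4, f6⟩ := hfix
  have key : ∀ (d : ℕ) (S : SylTor), d ∈ ({1, 2, 3, 4, 6, 8, 12} : Finset ℕ) →
      orderOf (Fintype.card F : ZMod s) = d → chkSyl tblF4 1 S = true → chkFixZero S = true → S.phi = cycOf d →
      ∃ z : ↥(chevF4.group F), orderOf z = 2 * s := fun d S hd he hc hf hp =>
    exists_double one_pos (sylOK hc) hf Fact.out hs2 (by rw [sylTor_val hp]; exact dvd_cycVal hd he)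
  simp only [Finset.mem_insert, Finset.mem_singleton] at hs
  rcases hs with e | e | e | e | e
  · exact key 1 sRoot1 (by decide) e h1 f1 rfl
  · exact key 2 sRoot2 (by decide) e h2 f2 rfl
  · exact key 3 sRoot3 (by decide) e h3 f3 rfl
  · exact key 4 sRoot4 (by decide) e h4 f4 rfl
  · exact key 6 s126_6 (by decide) e h6 f6 rfl

/-- An element of order the product of two odd primes with compatible orders of `q`. -/
theorem present_pair [CharP F 2] {r s : ℕ} [Fact r.Prime] [Fact s.Prime] (hr2 : r ≠ 2) (hs2 : s ≠ 2) (hrs : r ≠ s)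
    {a b : ℕ} (ha : orderOf (Fintype.card F : ZMod r) = a) (hb : orderOf (Fintype.card F : ZMod s) = b)
    (hav : a ∈ ({1, 2, 3, 4, 6, 8, 12} : Finset ℕ)) (hbv : b ∈ ({1, 2, 3, 4, 6, 8, 12} : Finset ℕ))
    (hE : ¬ Excl a b) : ∃ z : ↥(chevF4.group F), orderOf z = r * s := by
  have hsyl := chk_syl
  simp only [Bool.and_eq_true] at hsyl
  obtain ⟨a1, a2, a6, b1, b2, b3, c1, c2, c4, -⟩ := hsyl
  have key : ∀ {k m : ℕ} {S S' : SylTor}, 0 < k → 0 < m → chkSyl tblF4 k S = true → chkSyl tblF4 m S' = true →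
      S'.w = S.w → S.phi = cycOf a → S'.phi = cycOf b → ∃ z : ↥(chevF4.group F), orderOf z = r * s :=
    fun hk hm h h' hw hp hp' => exists_pair hk hm (sylOK h) (sylOK h') hw Fact.out Fact.out hr2 hs2 hrs
      (by rw [sylTor_val hp]; exact dvd_cycVal hav ha) (by rw [sylTor_val hp']; exact dvd_cycVal hbv hb)
  simp only [Finset.mem_insert, Finset.mem_singleton] at hav hbv
  rcases hav with rfl | rfl | rfl | rfl | rfl | rfl | rfl <;>
    rcases hbv with rfl | rfl | rfl | rfl | rfl | rfl | rfl <;>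
    first
      | (exfalso; apply hE; unfold Excl; decide)
      | exact key (by norm_num) (by norm_num) chkSyl_F4_1 chkSyl_F4_1 rfl rfl rfl
      | exact key (by norm_num) (by norm_num) chkSyl_F4_2 chkSyl_F4_2 rfl rfl rfl
      | exact key (by norm_num) (by norm_num) chkSyl_F4_3 chkSyl_F4_3 rfl rfl rfl
      | exact key (by norm_num) (by norm_num) chkSyl_F4_4 chkSyl_F4_4 rfl rfl rfl
      | exact key (by norm_num) (by norm_num) chkSyl_F4_6 chkSyl_F4_6 rfl rfl rfl
      | exact key (by norm_num) (by norm_num) chkSyl_F4_8 chkSyl_F4_8 rfl rfl rfl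
      | exact key (by norm_num) (by norm_num) chkSyl_F4_12 chkSyl_F4_12 rfl rfl rfl
      | exact key one_pos one_pos a1 a2 rfl rfl rfl
      | exact key one_pos one_pos a2 a1 rfl rfl rfl
      | exact key one_pos one_pos a1 a6 rfl rfl rfl
      | exact key one_pos one_pos a6 a1 rfl rfl rfl
      | exact key one_pos one_pos a2 a6 rfl rfl rfl
      | exact key one_pos one_pos a6 a2 rfl rfl rfl
      | exact key one_pos one_pos b1 b3 rfl rfl rfl
      | exact key one_pos one_pos b3 b1 rfl rfl rfl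
      | exact key one_pos one_pos b2 b3 rfl rfl rfl
      | exact key one_pos one_pos b3 b2 rfl rfl rfl
      | exact key one_pos one_pos c1 c4 rfl rfl rfl
      | exact key one_pos one_pos c4 c1 rfl rfl rfl
      | exact key one_pos one_pos c2 c4 rfl rfl rfl
      | exact key one_pos one_pos c4 c2 rfl rfl rfl

theorem exists_orders {G : Type*} [Group G] [Finite G] {x : G} {r s : ℕ} (hr : 0 < r) (hs : 0 < s)
    (hx : orderOf x = r * s) : ∃ a b : G, Commute a b ∧ orderOf a = r ∧ orderOf b = s := by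
  refine ⟨x ^ s, x ^ r, (Commute.refl x).pow_pow _ _, ?_, ?_⟩
  · rw [orderOf_pow' x hs.ne', hx, Nat.gcd_mul_left_left, Nat.mul_div_cancel _ hs]
  · rw [orderOf_pow' x hr.ne', hx, Nat.gcd_mul_right_left, Nat.mul_div_cancel_left _ hr]

/-- The adjacency criterion of the prime graph. -/
theorem criterion [CharP F 2] (r s : ℕ) [Fact r.Prime] [Fact s.Prime] (hrs : r ≠ s)
    (hrG : r ∣ Nat.card ↥(chevF4.group F)) (hsG : s ∣ Nat.card ↥(chevF4.group F)) :
    (¬ ∃ x : ↥(chevF4.group F), orderOf x = r * s) ↔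
      ((r = 2 ∧ orderOf (Fintype.card F : ZMod s) ∈ ({8, 12} : Finset ℕ)) ∨
        (s = 2 ∧ orderOf (Fintype.card F : ZMod r) ∈ ({8, 12} : Finset ℕ)) ∨
        (r ≠ 2 ∧ s ≠ 2 ∧ Excl (orderOf (Fintype.card F : ZMod r)) (orderOf (Fintype.card F : ZMod s)))) := by
  haveI : Finite (GL chevF4.Idx F) := inferInstance
  have hrp : r.Prime := Fact.out
  have hsp : s.Prime := Fact.out
  constructor
  · intro hno
    by_contra hcon
    rw [not_or, not_or] at hcon
    obtain ⟨h1, h2, h3⟩ := hcon
    apply hno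
    by_cases hr : r = 2
    · subst hr
      have hs2 : s ≠ 2 := fun e => hrs e.symm
      refine present_double hs2 ?_
      have := ord_values hs2 hsG
      simp only [Finset.mem_insert, Finset.mem_singleton, true_and] at this h1 ⊢
      omega
    by_cases hs : s = 2
    · subst hs
      rw [mul_comm]
      refine present_double hr ?_
      have := ord_values hr hrG
      simp only [Finset.mem_insert, Finset.mem_singleton, true_and] at this h2 ⊢
      omega
    exact present_pair hr hs hrs rfl rfl (ord_values hr hrG) (ord_values hs hsG) fun h => h3 ⟨hr, hs, h⟩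
  · rintro h ⟨x, hx⟩
    obtain ⟨a, b, hab, ha, hb⟩ := exists_orders hrp.pos hsp.pos hx
    rcases h with ⟨h1, h2⟩ | ⟨h1, h2⟩ | ⟨hr2, hs2, hE⟩
    · exact (absent_large h2 hab ha hb).1 h1
    · exact (absent_large h2 hab.symm hb ha).1 h1
    by_cases hbig : orderOf (Fintype.card F : ZMod s) ∈ ({8, 12} : Finset ℕ)
    · have := (absent_large hbig hab ha hb).2
      rw [this] at hE
      simp [Excl] at hE
    by_cases hbig' : orderOf (Fintype.card F : ZMod r) ∈ ({8, 12} : Finset ℕ)
    · have := (absent_large hbig' hab.symm hb ha).2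
      rw [this] at hE
      simp [Excl] at hE
    refine absent_middle ?_ ?_ hab ha hb hE
    · simp only [Excl, Finset.mem_insert, Finset.mem_singleton] at hE hbig hbig' ⊢; omega
    · simp only [Excl, Finset.mem_insert, Finset.mem_singleton] at hE hbig hbig' ⊢; omega

end Cfsg.Lib.Chev.F4Graph
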