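import Cfsg.Agent.Lib.Chev.F4Graph.Cyclo

/-!
Commuting elements of coprime orders in F4 over a field of characteristic two: the orders of `q` modulo their orders
belong to one of the five quartics, and the centraliser of an element belonging to the last two has odd order.
-/

set_option autoImplicit false
set_option linter.unusedSectionVars false
set_option maxRecDepth 100000

namespace Cfsg.Lib.Chev.F4Graph

open Cfsg.Lie Cfsg.Lib.Chev

private theorem cF : Cert chevF4 tblF4 := fullCertF4.comm.cert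

/-- An element of prime order is conjugate into a subgroup of index prime to it. -/
theorem exists_conj_mem {X : Type*} [Group X] [Finite X] {s : ℕ} [Fact s.Prime] (A : Subgroup X)
    (hA : ¬ s ∣ A.index) {y : X} (hy : y ^ s = 1) : ∃ g : X, g⁻¹ * y * g ∈ A := by
  have hp : IsPGroup s ↥(Subgroup.zpowers y) := by
    rintro ⟨z, k, rfl⟩
    refine ⟨1, Subtype.ext ?_⟩
    show (y ^ k) ^ s ^ 1 = 1
    rw [pow_one, ← zpow_natCast, ← zpow_mul, mul_comm, zpow_mul, zpow_natCast, hy, one_zpow]
  obtain ⟨a, ha⟩ := hp.nonempty_fixed_point_of_prime_not_dvd_card (X ⧸ A) hA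
  obtain ⟨g, rfl⟩ := QuotientGroup.mk_surjective a
  refine ⟨g, ?_⟩
  have h := ha ⟨y, Subgroup.mem_zpowers y⟩
  have h2 : ((y * g : X) : X ⧸ A) = (g : X ⧸ A) := h
  rw [QuotientGroup.eq] at h2
  rw [show g⁻¹ * y * g = ((y * g)⁻¹ * g)⁻¹ by group]
  exact inv_mem h2

variable {F : Type*} [Field F] [Fintype F]

/-- The finite overgroup with its Frobenius. -/
structure Over (F : Type*) [Field F] [Fintype F] where
  /-- The larger field. -/
  L : Type
  [instF : Field L]
  [instFin : Finite L]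
  [char : CharP L 2]
  /-- The Frobenius of the smaller field. -/
  σ : L →+* L
  σ_pow : ∀ x, σ x = x ^ Fintype.card F
  /-- The embedding. -/
  φ : ↥(chevF4.group F) →* ↥(chevF4.group L)
  φ_inj : Function.Injective φ
  φ_fix : ∀ z, Matrix.GeneralLinearGroup.map σ (φ z : GL chevF4.Idx L) = (φ z : GL chevF4.Idx L)
  card : Nat.card L = Fintype.card F ^ 24

attribute [instance] Over.instF Over.instFin Over.char

theorem exists_over [CharP F 2] : Nonempty (Over F) := by
  haveI : Fact (Nat.Prime 2) := ⟨Nat.prime_two⟩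
  let L := FiniteField.Extension F 2 24
  haveI : CharP L 2 := charP_of_injective_algebraMap (algebraMap F L).injective 2
  refine ⟨{
    L := L
    σ := (FiniteField.frobeniusAlgHom F L).toRingHom
    σ_pow := fun x => rfl
    φ := ((Matrix.GeneralLinearGroup.map (n := chevF4.Idx) (algebraMap F L)).comp
      (chevF4.group F).subtype).codRestrict _ (fun x => map_group_le cF _ x.2)
    φ_inj := fun x y hxy => Subtype.ext (map_gl_injective _ (congrArg Subtype.val hxy))
    φ_fix := fun z => Units.ext (Matrix.ext fun i j => ?_)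
    card := by rw [FiniteField.natCard_extension, Nat.card_eq_fintype_card] }⟩
  exact (FiniteField.frobeniusAlgHom F L).commutes _

variable (E : Over F)

/-- The torus of the overgroup. -/
noncomputable def Over.torus : Subgroup ↥(chevF4.group E.L) :=
  (chevF4.diagonalSubgroup E.L).subgroupOf (chevF4.group E.L)

theorem Over.torus_index {s : ℕ} [Fact s.Prime] (hs5 : 5 ≤ s) (ho : orderOf (Fintype.card F : ZMod s) ∣ 24) :
    ¬ s ∣ E.torus.index := by
  refine AltSection.torus_index_mod cF fullCertF4 chkWeylF4 Fact.out ?_ ?_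
  · have h : ((Nat.card E.L : ℕ) : ZMod s) = ((1 : ℕ) : ZMod s) := by
      rw [E.card, Nat.cast_pow, Nat.cast_one]; exact orderOf_dvd_iff_pow_eq_one.1 ho
    rw [ZMod.natCast_eq_natCast_iff'] at h
    rwa [Nat.mod_eq_of_lt (Fact.out : s.Prime).one_lt] at h
  · rw [show ∏ j ∈ Finset.range chevF4.rank, (nth ([], []) weylF4 j).1.length = 2 ^ 7 * 3 ^ 2 by decide +kernel]
    intro h
    rcases (Nat.Prime.dvd_mul Fact.out).1 h with h | h
    · have := Nat.le_of_dvd (by norm_num) ((Fact.out : s.Prime).dvd_of_dvd_pow h); omega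
    · have := Nat.le_of_dvd (by norm_num) ((Fact.out : s.Prime).dvd_of_dvd_pow h); omega

/-- One word acts on the parameters of all the fixed elements that a given conjugation brings into the torus. -/
theorem Over.exists_qact {g : GL chevF4.Idx E.L} (hg : g ∈ chevF4.group E.L) :
    ∃ v, IsWord chevF4 v ∧ ∀ (z : ↥(chevF4.group F)) (c : Fin chevF4.rank → E.Lˣ),
      g⁻¹ * (E.φ z : GL chevF4.Idx E.L) * g = torusHom chevF4 tblF4 E.L c → QAct v c (Fintype.card F) := by
  let M := Matrix.GeneralLinearGroup.map (n := chevF4.Idx) E.σ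
  obtain ⟨n, hn, hfus⟩ := G2Alt.torus_fusion cF fullCertF4
    (mul_mem (inv_mem (map_group_le cF E.σ hg)) hg : (M g)⁻¹ * g ∈ chevF4.group E.L)
  obtain ⟨u, -, hu, d, hd, rfl⟩ := G2Alt.monomial_word cF fullCertF4 chkWeylF4 hn
  refine ⟨u.reverse, hu.reverse, fun z c hc r hr => ?_⟩
  have hdc : ∀ e : Fin chevF4.rank → E.Lˣ, torusHom chevF4 tblF4 E.L e ∈ chevF4.diagonalSubgroup E.L :=
    fun e => by rw [← torusHom_range cF]; exact ⟨e, rfl⟩
  let c' : Fin chevF4.rank → E.Lˣ := fun i => Units.map E.σ.toMonoidHom (c i)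
  have e1 : M (torusHom chevF4 tblF4 E.L c) = torusHom chevF4 tblF4 E.L c' := map_torusHom cF E.σ c
  have e2 : M (torusHom chevF4 tblF4 E.L c) = ((M g)⁻¹ * g) * torusHom chevF4 tblF4 E.L c * ((M g)⁻¹ * g)⁻¹ := by
    rw [← hc, map_mul, map_mul, map_inv, show M (E.φ z : GL chevF4.Idx E.L) = _ from E.φ_fix z]
    group
  have e3 := hfus _ (hdc c) (by rw [← e2, e1]; exact hdc c')
  rw [← e2, e1] at e3
  obtain ⟨e, he, hchr⟩ := torus_word_conj cF hu c
  have e4 : torusHom chevF4 tblF4 E.L c' = torusHom chevF4 tblF4 E.L e := by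
    rw [e3, ← he, mul_inv_rev, show ∀ w : GL chevF4.Idx E.L, w * d * torusHom chevF4 tblF4 E.L c * (d⁻¹ * w⁻¹) =
      w * (d * torusHom chevF4 tblF4 E.L c * d⁻¹) * w⁻¹ from fun w => by group,
      G2Alt.diag_commute cF hd (hdc c), mul_inv_cancel_right]
  have hr' := wperm_lt cF hu.reverse hr
  have hrev := wperm_reverse cF hu.reverse hr
  rw [List.reverse_reverse] at hrev
  refine Units.ext ?_
  rw [coe_uchr, Units.val_pow_eq_pow_val, coe_uchr, ← E.σ_pow, ← hchr _ hr', hrev,
    ← chr_eq_of_torusHom cF e4 hr]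
  simp only [chr, map_prod, map_zpow₀]
  refine Finset.prod_congr rfl fun j hj => ?_
  simp [extend', Finset.mem_range.1 hj, c']

theorem Over.exists_param {t : ↥(chevF4.group E.L)} (ht : t ∈ E.torus) {s : ℕ} (hts : orderOf t = s)
    (h1 : 1 < s) : ∃ c : Fin chevF4.rank → E.Lˣ,
      torusHom chevF4 tblF4 E.L c = (t : GL chevF4.Idx E.L) ∧ c ^ s = 1 ∧ c ≠ 1 := by
  have ht' : (t : GL chevF4.Idx E.L) ∈ chevF4.diagonalSubgroup E.L := ht
  rw [← torusHom_range cF] at ht'
  obtain ⟨c, hc⟩ := ht'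
  refine ⟨c, hc, torusHom_inj ?_, fun e => ?_⟩
  · rw [map_pow, hc, map_one, ← Subgroup.coe_pow, ← hts, pow_orderOf_eq_one, Subgroup.coe_one]
  · rw [e, map_one] at hc
    have : t = 1 := Subtype.ext hc.symm
    rw [this, orderOf_one] at hts
    omega

theorem Over.exists_toral {s : ℕ} [Fact s.Prime] (hs5 : 5 ≤ s) (ho : orderOf (Fintype.card F : ZMod s) ∣ 24)
    {y : ↥(chevF4.group F)} (hy : orderOf y = s) :
    ∃ g : ↥(chevF4.group E.L), g⁻¹ * E.φ y * g ∈ E.torus ∧ orderOf (g⁻¹ * E.φ y * g) = s := by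
  have hy1 : orderOf (E.φ y) = s := by rw [orderOf_injective E.φ E.φ_inj, hy]
  obtain ⟨g, hg⟩ := exists_conj_mem E.torus (E.torus_index hs5 ho) (hy1 ▸ pow_orderOf_eq_one (E.φ y))
  refine ⟨g, hg, ?_⟩
  rw [show g⁻¹ * E.φ y * g = MulAut.conj g⁻¹ (E.φ y) by simp, MulEquiv.orderOf_eq, hy1]

/-- The order of `q` modulo the order of an element decides the quartic of its word. -/
theorem ord_of_qact {s : ℕ} [Fact s.Prime] (hs2 : s ≠ 2) {v : List ℕ} (hv : IsWord chevF4 v) {i : ℕ} (hi : i < 5)
    (hann : ∀ k < chevF4.rank, annAt v i (tblF4.simp' k) = true) {c : Fin chevF4.rank → E.Lˣ}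
    (hcs : c ^ s = 1) (hc : c ≠ 1) {q : ℕ} (h : QAct v c q) :
    orderOf (q : ZMod s) ∈ nth [] ordSets i :=
  ord_mem hs2 hi (dvd_quartic hv hann Fact.out hcs hc h)

/-- An element commuting with one belonging to eight or twelve has odd order and the same order of `q`. -/
theorem absent_large [CharP F 2] {r s : ℕ} [Fact r.Prime] [Fact s.Prime]
    (hs : orderOf (Fintype.card F : ZMod s) ∈ ({8, 12} : Finset ℕ)) {x y : ↥(chevF4.group F)}
    (hxy : Commute x y) (hx : orderOf x = r) (hy : orderOf y = s) :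
    r ≠ 2 ∧ orderOf (Fintype.card F : ZMod r) = orderOf (Fintype.card F : ZMod s) := by
  obtain ⟨E⟩ := exists_over (F := F)
  simp only [Finset.mem_insert, Finset.mem_singleton] at hs
  have hs5 : 5 ≤ s := five_le_of_ord (q := Fintype.card F) (by simp only [Finset.mem_insert, Finset.mem_singleton]; omega)
  obtain ⟨g, hgT, hgy⟩ := E.exists_toral hs5 (by rcases hs with h | h <;> rw [h] <;> norm_num) hy
  obtain ⟨v, hv, hact⟩ := E.exists_qact g.2
  obtain ⟨c, hc, hcs, hc1⟩ := E.exists_param hgT hgy (by omega)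
  have hq := hact y c hc.symm
  obtain ⟨i, hi, hann, hconj⟩ := word_type hv
  have hmem := ord_of_qact E (by omega) hv hi hann hcs hc1 hq
  have h34 : i = 3 ∨ i = 4 := by
    generalize orderOf (Fintype.card F : ZMod s) = e at hmem hs
    interval_cases i <;> simp [ordSets, nth_eq] at hmem ⊢ <;> omega
  obtain ⟨z, hz, hperm⟩ := hconj h34
  obtain ⟨e, he, hchr⟩ := torus_word_conj cF hz c
  have he_eq : ∀ k < chevF4.nroots, uchr cF e (wperm tblF4 z k) = uchr cF c k :=
    fun k hk => Units.ext (by rw [coe_uchr, coe_uchr, hchr k hk])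
  have hact' : QAct (repTor i).w e (Fintype.card F) := by
    intro k hk
    have hzr := wperm_reverse cF hz.reverse hk
    rw [List.reverse_reverse] at hzr
    have hk' := wperm_lt cF hz.reverse hk
    rw [← hzr, ← wperm_append, ← hperm _ hk', wperm_append, he_eq _ (wperm_lt cF hv hk'), hq _ hk', he_eq _ hk']
  have hes : e ^ s = 1 := torusHom_inj (by
    rw [map_pow, ← he, conj_pow, ← map_pow, hcs, map_one, mul_one, mul_inv_cancel])
  have he1 : e ≠ 1 := fun h => hc1 (torusHom_inj (by
    rw [h, map_one] at he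
    rw [map_one]
    calc torusHom chevF4 tblF4 E.L c = (wnu cF E.L z)⁻¹ *
        (wnu cF E.L z * torusHom chevF4 tblF4 E.L c * (wnu cF E.L z)⁻¹) * wnu cF E.L z := by group
      _ = 1 := by rw [he]; group))
  have hqd : (s : ℤ) ∣ quartic (repTor i).tg (Fintype.card F) := by
    have := dvd_quartic hv hann Fact.out hcs hc1 hq
    rcases h34 with rfl | rfl <;> simpa [quartic, repTor, polys, torF4, torTwelve, nth_eq] using this
  obtain ⟨N, hN⟩ := regData i
  obtain ⟨hreg, hsep⟩ := regular hN Fact.out hs5 hes he1 hact' hqd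
  -- the commuting element is in the torus
  set X : ↥(chevF4.group E.L) := g⁻¹ * E.φ x * g with hX
  have hXr : orderOf X = r := by
    rw [hX, show g⁻¹ * E.φ x * g = MulAut.conj g⁻¹ (E.φ x) by simp, MulEquiv.orderOf_eq,
      orderOf_injective E.φ E.φ_inj, hx]
  have hcomm : torusHom chevF4 tblF4 E.L c * (X : GL chevF4.Idx E.L) =
      (X : GL chevF4.Idx E.L) * torusHom chevF4 tblF4 E.L c := by
    rw [hc, ← Subgroup.coe_mul, ← Subgroup.coe_mul, hX]
    congr 1
    calc g⁻¹ * E.φ y * g * (g⁻¹ * E.φ x * g) = g⁻¹ * (E.φ y * E.φ x) * g := by group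
      _ = g⁻¹ * (E.φ x * E.φ y) * g := by rw [← map_mul, ← map_mul, hxy.eq]
      _ = _ := by group
  have hwz : wnu cF E.L z ∈ chevF4.monomialSubgroup E.L := wnu_mem cF hz
  have hXd : (X : GL chevF4.Idx E.L) ∈ chevF4.diagonalSubgroup E.L := by
    have hwG := monomial_le_group cF hwz
    have hd := centralizer_regular cF fullCertF4 hreg hsep
      (u := wnu cF E.L z * X * (wnu cF E.L z)⁻¹) (mul_mem (mul_mem hwG X.2) (inv_mem hwG)) (by
        rw [← he]
        calc wnu cF E.L z * torusHom chevF4 tblF4 E.L c * (wnu cF E.L z)⁻¹ *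
            (wnu cF E.L z * X * (wnu cF E.L z)⁻¹) =
            wnu cF E.L z * (torusHom chevF4 tblF4 E.L c * X) * (wnu cF E.L z)⁻¹ := by group
          _ = _ := by rw [hcomm]; group)
    have := (conj_mem_diag cF hwz hd).2
    rwa [show (wnu cF E.L z)⁻¹ * (wnu cF E.L z * (X : GL chevF4.Idx E.L) * (wnu cF E.L z)⁻¹) * wnu cF E.L z = X by
      group] at this
  obtain ⟨d, hd, hdr, hd1⟩ := E.exists_param (t := X) hXd hXr (Fact.out : r.Prime).one_lt
  have hr2 : r ≠ 2 := by
    rintro rfl
    refine hd1 (funext fun k => Units.ext ?_)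
    have h2 : ((d k : E.Lˣ) : E.L) ^ 2 = 1 := by
      have := congrArg Units.val (congrFun hdr k)
      simpa using this
    have h3 : (((d k : E.Lˣ) : E.L) - 1) ^ 2 = 0 := by
      rw [sub_sq, h2]
      linear_combination (1 - ((d k : E.Lˣ) : E.L)) * (CharTwo.two_eq_zero (R := E.L))
    simpa [sub_eq_zero] using h3
  refine ⟨hr2, ?_⟩
  have hmr := ord_of_qact E hr2 hv hi hann hdr hd1 (hact x d hd.symm)
  generalize orderOf (Fintype.card F : ZMod s) = e at hmem ⊢
  generalize orderOf (Fintype.card F : ZMod r) = e' at hmr ⊢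
  rcases h34 with rfl | rfl <;> simp [ordSets, nth_eq] at hmem hmr <;> omega

/-- Two commuting elements with orders of `q` at least three share a quartic. -/
theorem absent_middle [CharP F 2] {r s : ℕ} [Fact r.Prime] [Fact s.Prime]
    (hr : orderOf (Fintype.card F : ZMod r) ∈ ({3, 4, 6} : Finset ℕ))
    (hs : orderOf (Fintype.card F : ZMod s) ∈ ({3, 4, 6} : Finset ℕ)) {x y : ↥(chevF4.group F)}
    (hxy : Commute x y) (hx : orderOf x = r) (hy : orderOf y = s) :
    ¬ Excl (orderOf (Fintype.card F : ZMod r)) (orderOf (Fintype.card F : ZMod s)) := by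
  obtain ⟨E⟩ := exists_over (F := F)
  simp only [Finset.mem_insert, Finset.mem_singleton] at hr hs
  have hr5 : 5 ≤ r := five_le_of_ord (q := Fintype.card F) (by simp only [Finset.mem_insert, Finset.mem_singleton]; omega)
  have hs5 : 5 ≤ s := five_le_of_ord (q := Fintype.card F) (by simp only [Finset.mem_insert, Finset.mem_singleton]; omega)
  obtain ⟨g, hgT, hgx⟩ := E.exists_toral hr5 (by rcases hr with h | h | h <;> rw [h] <;> norm_num) hx
  set X : ↥(chevF4.group E.L) := g⁻¹ * E.φ x * g with hX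
  let C := Subgroup.centralizer ({X} : Set ↥(chevF4.group E.L))
  have hTC : E.torus ≤ C := fun t ht => Subgroup.mem_centralizer_singleton_iff.2
    (Subtype.ext (G2Alt.diag_commute cF ht hgT))
  have hind : ¬ s ∣ (E.torus.subgroupOf C).index := by
    intro h
    refine E.torus_index hs5 (by rcases hs with h | h | h <;> rw [h] <;> norm_num) ?_
    rw [← Subgroup.relIndex_mul_index hTC]
    exact h.mul_right _
  set Y : ↥(chevF4.group E.L) := g⁻¹ * E.φ y * g with hY
  have hYC : Y ∈ C := Subgroup.mem_centralizer_singleton_iff.2 (by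
    rw [hX, hY]
    calc g⁻¹ * E.φ y * g * (g⁻¹ * E.φ x * g) = g⁻¹ * (E.φ y * E.φ x) * g := by group
      _ = g⁻¹ * (E.φ x * E.φ y) * g := by rw [← map_mul, ← map_mul, hxy.eq]
      _ = _ := by group)
  have hYs : orderOf Y = s := by
    rw [hY, show g⁻¹ * E.φ y * g = MulAut.conj g⁻¹ (E.φ y) by simp, MulEquiv.orderOf_eq,
      orderOf_injective E.φ E.φ_inj, hy]
  obtain ⟨h, hh⟩ := exists_conj_mem (E.torus.subgroupOf C) hind (y := (⟨Y, hYC⟩ : ↥C))
    (Subtype.ext (by simpa [← hYs] using pow_orderOf_eq_one Y))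
  have hhY : (h : ↥(chevF4.group E.L))⁻¹ * Y * h ∈ E.torus := hh
  have hhX : (h : ↥(chevF4.group E.L))⁻¹ * X * h = X := by
    rw [mul_assoc, ← Subgroup.mem_centralizer_singleton_iff.1 h.2]; group
  obtain ⟨v, hv, hact⟩ := E.exists_qact (g * (h : ↥(chevF4.group E.L))).2
  obtain ⟨c, hc, hcr, hc1⟩ := E.exists_param hgT hgx (by omega)
  obtain ⟨d, hd, hds, hd1⟩ := E.exists_param hhY (by
    rw [show (h : ↥(chevF4.group E.L))⁻¹ * Y * h = MulAut.conj (h : ↥(chevF4.group E.L))⁻¹ Y by simp,
      MulEquiv.orderOf_eq, hYs]) (by omega : 1 < s)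
  obtain ⟨i, hi, hann, -⟩ := word_type hv
  refine not_excl_of_mem hi (ord_of_qact E (by omega) hv hi hann hcr hc1 (hact x c ?_))
    (ord_of_qact E (by omega) hv hi hann hds hd1 (hact y d ?_))
  · rw [hc, ← hhX, hX]
    simp only [Subgroup.coe_mul, Subgroup.coe_inv]
    group
  · rw [hd, hY]
    simp only [Subgroup.coe_mul, Subgroup.coe_inv]
    group

end Cfsg.Lib.Chev.F4Graph
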