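import Cfsg.Agent.Lib.Chev.F4Graph.Data
import Cfsg.Agent.Lib.Chev.TorusData
import Cfsg.Agent.Lib.Chev.TorusF4
import Cfsg.Agent.Lib.Chev.WeylF4

/-!
Checks on the Weyl group of type F4: the annihilating polynomials, the conjugators to the two representatives,
and the norms deciding regularity.
-/

set_option autoImplicit false
set_option maxRecDepth 100000

namespace Cfsg.Lib.Chev.F4Graph

open Cfsg.Lie

/-- The torus data for the twelfth roots of unity. -/
def torTwelve : TorData :=
  ⟨[3, 2, 1, 0], [1, 0, -1, 0], [[-1, 0, 0, 0], [-1, -1, 0, 1], [-2, -1, 1, 1], [-1, 0, 0, 1]], 3⟩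

theorem chkTor_twelve : chkTor tblF4 torTwelve = true := by decide +kernel

/-- The low coefficients of the five annihilating polynomials. -/
def polys : List (List ℤ) := [[-1, 1, 0, -1], [-1, -1, 0, 1], [-1, 0, 0, 0], [1, 0, 0, 0], [1, 0, -1, 0]]

/-- The polynomial with number `i` annihilates the word on the root `r`. -/
noncomputable def annAt (u : List ℕ) (i r : ℕ) : Bool :=
  let P := nth [] polys i
  let r1 := wperm tblF4 u r
  let r2 := wperm tblF4 u r1
  let r3 := wperm tblF4 u r2
  let r4 := wperm tblF4 u r3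
  allBelow (fun j => decide (tblF4.cartan j r4 + nth 0 P 3 * tblF4.cartan j r3 + nth 0 P 2 * tblF4.cartan j r2 +
    nth 0 P 1 * tblF4.cartan j r1 + nth 0 P 0 * tblF4.cartan j r = 0)) 4

/-- The word conjugates `u` to `w`. -/
noncomputable def conjAt (u z w : List ℕ) (r : ℕ) : Bool :=
  Nat.beq (wperm tblF4 z (wperm tblF4 u r)) (wperm tblF4 w (wperm tblF4 z r))

/-- The check of one word. -/
noncomputable def chkWord (u : List ℕ) (p : ℕ × List ℕ) : Bool :=
  Nat.blt p.1 5 && (allBelow (fun k => annAt u p.1 (tblF4.simp' k)) 4 &&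
    (allBelow (fun i => Nat.blt (nth 0 p.2 i) 4) p.2.length &&
      allBelow (fun k => (bif Nat.beq p.1 3 then conjAt u p.2 torF4.w (tblF4.simp' k) else true) &&
        (bif Nat.beq p.1 4 then conjAt u p.2 torTwelve.w (tblF4.simp' k) else true)) 4))

/-- The norm from the eighth roots of unity. -/
def normEight (a b c d : ℤ) : ℤ :=
  (a * a - c * c + 2 * b * d) * (a * a - c * c + 2 * b * d) + (2 * a * c - b * b + d * d) * (2 * a * c - b * b + d * d)

/-- The norm from the twelfth roots of unity. -/
def normTwelve (a b c d : ℤ) : ℤ :=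
  (a * a - c * c + 2 * b * d + d * d) * (a * a - c * c + 2 * b * d + d * d) +
    (a * a - c * c + 2 * b * d + d * d) * (2 * a * c + c * c - b * b - 2 * b * d) +
    (2 * a * c + c * c - b * b - 2 * b * d) * (2 * a * c + c * c - b * b - 2 * b * d)

/-- The norm of a coordinate vector. -/
def normOf (S : ℕ → ℤ) (N : ℤ → ℤ → ℤ → ℤ → ℤ) : ℕ := (N (S 0) (S 1) (S 2) (S 3)).natAbs

/-- A bound with no prime factor above three. -/
def smooth : ℕ := 6 ^ 30

/-- The norm of a root has only small prime factors. -/
noncomputable def chkRoot (S : TorData) (N : ℤ → ℤ → ℤ → ℤ → ℤ) (r : ℕ) : Bool :=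
  Nat.beq (smooth % normOf (fun k => S.coef tblF4 r k) N) 0

/-- The coordinates of the difference between a simple root and its image. -/
noncomputable def diffC (S : TorData) (u : List ℕ) (i k : ℕ) : ℤ :=
  S.coef tblF4 (wperm tblF4 u (tblF4.simp' i)) k - S.coef tblF4 (tblF4.simp' i) k

/-- A word fixes the simple roots. -/
noncomputable def fixSimple (u : List ℕ) : Bool :=
  allBelow (fun k => Nat.beq (wperm tblF4 u (tblF4.simp' k)) (tblF4.simp' k)) 4

/-- The polynomial with coordinates `a` at `q` is divisible by thirteen. -/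
def zeroMod (a : ℕ → ℤ) (q : ℤ) : Bool := decide ((a 0 + a 1 * q + a 2 * q ^ 2 + a 3 * q ^ 3) % 13 = 0)

/-- No prime above three kills the differences of a word that moves a simple root. -/
noncomputable def chkSep (S : TorData) (N : ℤ → ℤ → ℤ → ℤ → ℤ) (u : List ℕ) : Bool :=
  let G := Nat.gcd (Nat.gcd (normOf (diffC S u 0) N) (normOf (diffC S u 1) N))
    (Nat.gcd (normOf (diffC S u 2) N) (normOf (diffC S u 3) N))
  fixSimple u || (Nat.beq (smooth % G) 0 || (Nat.beq ((13 * smooth) % G) 0 &&
    allBelow (fun q => !decide (((q : ℤ) ^ 4 + nth 0 S.tg 3 * (q : ℤ) ^ 3 + nth 0 S.tg 2 * (q : ℤ) ^ 2 +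
        nth 0 S.tg 1 * q + nth 0 S.tg 0) % 13 = 0) ||
      !(zeroMod (diffC S u 0) q && (zeroMod (diffC S u 1) q && (zeroMod (diffC S u 2) q && zeroMod (diffC S u 3) q))))
      13))

theorem chkWord_all : allIdx (fun i u => chkWord u (nth (0, []) cert i)) (allW (nth ([], []) weylF4) 4) 0 = true := by
  decide +kernel

theorem chkRoot_eight : allBelow (chkRoot torF4 normEight) 48 = true := by decide +kernel

theorem chkRoot_twelve : allBelow (chkRoot torTwelve normTwelve) 48 = true := by decide +kernel

theorem chkSep_eight : allIdx (fun _ u => chkSep torF4 normEight u) (allW (nth ([], []) weylF4) 4) 0 = true := by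
  decide +kernel

theorem chkSep_twelve : allIdx (fun _ u => chkSep torTwelve normTwelve u) (allW (nth ([], []) weylF4) 4) 0 = true := by
  decide +kernel

end Cfsg.Lib.Chev.F4Graph
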