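import Cfsg.Agent.Lib.Chev.F4Graph.Eigen

/-!
The order of `q` modulo a prime dividing the value of one of the five quartics, and the values of the orders.
-/

set_option autoImplicit false
set_option linter.unusedSectionVars false

namespace Cfsg.Lib.Chev.F4Graph

open Cfsg.Lie

/-- The orders belonging to the five quartics. -/
def ordSets : List (List ℕ) := [[1, 2, 6], [1, 2, 3], [1, 2, 4], [8], [12]]

/-- Two orders never seen in the same quartic. -/
def Excl (a b : ℕ) : Prop :=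
  (a < b ∧ (b ∈ ({8, 12} : Finset ℕ) ∨ (b = 6 ∧ a ∈ ({3, 4} : Finset ℕ)) ∨ (b = 4 ∧ a = 3))) ∨
  (b < a ∧ (a ∈ ({8, 12} : Finset ℕ) ∨ (a = 6 ∧ b ∈ ({3, 4} : Finset ℕ)) ∨ (a = 4 ∧ b = 3)))

theorem not_excl_of_mem {i : ℕ} (hi : i < 5) {a b : ℕ} (ha : a ∈ nth [] ordSets i) (hb : b ∈ nth [] ordSets i) :
    ¬ Excl a b := by
  interval_cases i <;> simp [ordSets, nth_eq] at ha hb <;>
    first
      | (rcases ha with rfl | rfl | rfl <;> rcases hb with rfl | rfl | rfl <;> simp [Excl])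
      | (subst ha; subst hb; simp [Excl])

theorem sq_ne_two_mod_three : ∀ y : ZMod 3, y ^ 2 ≠ 2 := by decide

variable {s : ℕ} [hs : Fact s.Prime]

theorem ord_one_of {x : ZMod s} (h : x - 1 = 0) : orderOf x = 1 := by
  rw [sub_eq_zero.1 h, orderOf_one]

theorem ord_two_of (hs2 : s ≠ 2) {x : ZMod s} (h : x + 1 = 0) : orderOf x = 2 := by
  haveI : Fact (2 < s) := ⟨lt_of_le_of_ne hs.out.two_le (Ne.symm hs2)⟩
  rw [eq_neg_of_add_eq_zero_left h]
  exact orderOf_eq_prime (by ring) (ZMod.neg_one_ne_one (n := s))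

theorem two_ne_zero' (hs2 : s ≠ 2) : (2 : ZMod s) ≠ 0 := by
  intro h
  have h2 : ((2 : ℕ) : ZMod s) = 0 := by exact_mod_cast h
  rw [ZMod.natCast_eq_zero_iff] at h2
  exact hs2 ((Nat.prime_dvd_prime_iff_eq hs.out Nat.prime_two).1 h2)

theorem ord_four_of (hs2 : s ≠ 2) {x : ZMod s} (h : x ^ 2 + 1 = 0) : orderOf x = 4 := by
  haveI : Fact (Nat.Prime 2) := ⟨Nat.prime_two⟩
  refine orderOf_eq_prime_pow (p := 2) (n := 1) (fun e => two_ne_zero' hs2 ?_) (by linear_combination (x ^ 2 - 1) * h)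
  linear_combination h - e

theorem ord_eight_of (hs2 : s ≠ 2) {x : ZMod s} (h : x ^ 4 + 1 = 0) : orderOf x = 8 := by
  haveI : Fact (Nat.Prime 2) := ⟨Nat.prime_two⟩
  refine orderOf_eq_prime_pow (p := 2) (n := 2) (fun e => two_ne_zero' hs2 ?_) (by linear_combination (x ^ 4 - 1) * h)
  linear_combination h - e

theorem ord_three_of {x : ZMod s} (h : x ^ 2 + x + 1 = 0) : orderOf x = 1 ∨ orderOf x = 3 := by
  refine (Nat.dvd_prime Nat.prime_three).1 (orderOf_dvd_of_pow_eq_one ?_)
  linear_combination (x - 1) * h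

theorem ord_six_of (hs2 : s ≠ 2) {x : ZMod s} (h : x ^ 2 - x + 1 = 0) : orderOf x = 2 ∨ orderOf x = 6 := by
  have h6 : orderOf x ∣ 6 := orderOf_dvd_of_pow_eq_one (by linear_combination (x ^ 3 - 1) * (x + 1) * h)
  have h3 : ¬ orderOf x ∣ 3 := fun hd => by
    have e := orderOf_dvd_iff_pow_eq_one.1 hd
    exact two_ne_zero' hs2 (by linear_combination (x + 1) * h - e)
  have hle := Nat.le_of_dvd (by norm_num) h6
  interval_cases hk : orderOf x <;> simp_all

theorem ord_twelve_of (hs2 : s ≠ 2) {x : ZMod s} (h : x ^ 4 - x ^ 2 + 1 = 0) : orderOf x = 12 := by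
  have h12 : orderOf x ∣ 12 := orderOf_dvd_of_pow_eq_one (by linear_combination (x ^ 6 - 1) * (x ^ 2 + 1) * h)
  have h6 : ¬ orderOf x ∣ 6 := fun hd => by
    have e := orderOf_dvd_iff_pow_eq_one.1 hd
    exact two_ne_zero' hs2 (by linear_combination (x ^ 2 + 1) * h - e)
  have h4 : ¬ orderOf x ∣ 4 := fun hd => by
    have e := orderOf_dvd_iff_pow_eq_one.1 hd
    have hx2 : x ^ 2 = 2 := by linear_combination e - h
    have h3 : ((3 : ℕ) : ZMod s) = 0 := by
      push_cast
      linear_combination e - (x ^ 2 + 2) * hx2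
    rw [ZMod.natCast_eq_zero_iff, Nat.prime_dvd_prime_iff_eq hs.out Nat.prime_three] at h3
    subst h3
    exact sq_ne_two_mod_three x hx2
  have hle := Nat.le_of_dvd (by norm_num) h12
  interval_cases hk : orderOf x <;> simp_all

theorem quartic_cast (P : List ℤ) (q : ℕ) : ((quartic P q : ℤ) : ZMod s) = (q : ZMod s) ^ 4 +
    (nth 0 P 3 : ℤ) * (q : ZMod s) ^ 3 + (nth 0 P 2 : ℤ) * (q : ZMod s) ^ 2 + (nth 0 P 1 : ℤ) * (q : ZMod s) +
    (nth 0 P 0 : ℤ) := by
  simp [quartic]

/-- A prime dividing a quartic at `q` has one of the orders of that quartic. -/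
theorem ord_mem (hs2 : s ≠ 2) {q i : ℕ} (hi : i < 5) (h : (s : ℤ) ∣ quartic (nth [] polys i) q) :
    orderOf (q : ZMod s) ∈ nth [] ordSets i := by
  rw [← ZMod.intCast_zmod_eq_zero_iff_dvd, quartic_cast] at h
  generalize (q : ZMod s) = x at h ⊢
  interval_cases i <;> simp [polys, ordSets, nth_eq] at h ⊢
  · have h' : (x - 1) * ((x + 1) * (x ^ 2 - x + 1)) = 0 := by linear_combination h
    rcases mul_eq_zero.1 h' with e | e
    · exact Or.inl (sub_eq_zero.1 e)
    rcases mul_eq_zero.1 e with e | e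
    · exact Or.inr (Or.inl (ord_two_of hs2 e))
    · rcases ord_six_of hs2 e with e | e <;> simp [e]
  · have h' : (x - 1) * ((x + 1) * (x ^ 2 + x + 1)) = 0 := by linear_combination h
    rcases mul_eq_zero.1 h' with e | e
    · exact Or.inl (sub_eq_zero.1 e)
    rcases mul_eq_zero.1 e with e | e
    · exact Or.inr (Or.inl (ord_two_of hs2 e))
    · rcases ord_three_of e with e | e
      · exact Or.inl (orderOf_eq_one_iff.1 e)
      · simp [e]
  · have h' : (x - 1) * ((x + 1) * (x ^ 2 + 1)) = 0 := by linear_combination h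
    rcases mul_eq_zero.1 h' with e | e
    · exact Or.inl (sub_eq_zero.1 e)
    rcases mul_eq_zero.1 e with e | e
    · exact Or.inr (Or.inl (ord_two_of hs2 e))
    · exact Or.inr (Or.inr (ord_four_of hs2 e))
  · exact ord_eight_of hs2 h
  · exact ord_twelve_of hs2 (by linear_combination h)

/-- An order in the list is at most twelve and leaves the prime at least five. -/
theorem five_le_of_ord {q : ℕ} (h : orderOf (q : ZMod s) ∈ ({3, 4, 6, 8, 12} : Finset ℕ)) : 5 ≤ s := by
  by_contra hlt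
  have hpos : 3 ≤ orderOf (q : ZMod s) := by
    simp only [Finset.mem_insert, Finset.mem_singleton] at h
    omega
  have h0 : (q : ZMod s) ≠ 0 := fun e => by
    rw [e, orderOf_zero] at hpos; omega
  have hd := ZMod.orderOf_dvd_card_sub_one h0
  have h2 := hs.out.two_le
  have hle := Nat.le_of_dvd (by omega) hd
  have h4 : s = 4 := by omega
  exact (by norm_num : ¬ Nat.Prime 4) (h4 ▸ hs.out)

end Cfsg.Lib.Chev.F4Graph
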