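import Mathlib

/-! For each word of the Weyl group of type F4, the number of an annihilating polynomial and, for the two irreducible ones,
a word conjugating it to the representative. -/

set_option autoImplicit false
set_option maxRecDepth 100000

namespace Cfsg.Lib.Chev.F4Graph

def cert0 : List (ℕ × List ℕ) :=
  [
    (0, []), (0, []), (0, []), (1, []), (1, []), (0, []), (0, []), (0, []), (2, []), (0, []), (0, []),
    (2, []), (2, []), (0, []), (0, []), (2, []), (0, []), (0, []), (0, []), (2, []), (2, []), (0, []),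
    (0, []), (0, []), (0, []), (1, []), (0, []), (2, []), (2, []), (1, []), (1, []), (0, []), (2, []),
    (0, []), (1, []), (2, []), (2, []), (1, []), (1, []), (2, []), (0, []), (0, []), (0, []), (0, []),
    (0, []), (0, []), (0, []), (0, []), (0, []), (0, []), (0, []), (1, []), (1, []), (0, []), (1, []),
    (1, []), (0, []), (4, []), (4, [0]), (0, []), (0, []), (4, [0, 1]), (1, []), (0, []), (1, []), (4, [1]),
    (4, [0, 1, 0]), (0, []), (0, []), (1, []), (4, [1, 0]), (1, []), (2, []), (0, []), (2, []), (3, [0]),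
    (3, [0, 1]), (0, []), (0, []), (2, []), (3, []), (2, []), (0, []), (3, [0, 1, 0]), (3, [1]), (0, []),
    (0, []), (3, [1, 0]), (2, []), (2, []), (0, []), (0, []), (0, []), (0, []), (0, []), (0, []), (1, []),
    (1, []), (0, []), (4, [3]), (4, [3, 0]), (0, []), (0, []), (0, []), (2, []), (0, []), (0, []), (2, []),
    (0, []), (1, []), (2, []), (3, [2, 0]), (3, [1, 2]), (0, []), (1, []), (0, []), (3, [2]), (2, []),
    (0, []), (3, [1, 2, 0]), (0, []), (4, [2]), (1, []), (0, []), (0, []), (0, []), (4, [2, 0]), (0, [])]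

def cert1 : List (ℕ × List ℕ) :=
  [
    (0, []), (1, []), (0, []), (0, []), (1, []), (4, [1, 2]), (4, [1, 2, 0]), (1, []), (0, []), (0, []),
    (3, [0, 1, 2]), (0, []), (0, []), (3, [0, 1, 2, 0]), (2, []), (2, []), (0, []), (4, [3, 0, 1]), (1, []),
    (0, []), (1, []), (4, [3, 1]), (2, []), (0, []), (0, []), (2, []), (0, []), (0, []), (2, []),
    (3, [1, 2, 1]), (0, []), (0, []), (1, []), (3, [2, 0, 1]), (3, [2, 1]), (0, []), (1, []),
    (3, [1, 2, 0, 1]), (0, []), (2, []), (1, []), (0, []), (0, []), (0, []), (4, [2, 1]), (0, []), (0, []),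
    (0, []), (4, [2, 0, 1]), (0, []), (0, []), (1, []), (4, [1, 2, 0, 1]), (0, []), (1, []), (0, []),
    (4, [1, 2, 1]), (1, []), (0, []), (2, []), (3, [0, 1, 2, 1]), (2, []), (0, []), (3, [0, 1, 2, 0, 1]),
    (4, [3, 0, 1, 0]), (0, []), (0, []), (1, []), (4, [3, 1, 0]), (1, []), (0, []), (2, []), (2, []),
    (0, []), (0, []), (0, []), (3, [3, 2]), (2, []), (0, []), (0, []), (3, [2, 0, 1, 0]), (1, []), (0, []),
    (3, [2, 1, 0]), (3, [3, 2, 1]), (1, []), (2, []), (0, []), (0, []), (1, []), (0, []), (0, []), (0, []),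
    (4, [2, 1, 0]), (0, []), (0, []), (0, []), (4, [2, 0, 1, 0]), (1, []), (0, []), (0, []),
    (4, [1, 2, 0, 1, 0]), (0, []), (1, []), (1, []), (4, [1, 2, 1, 0]), (2, []), (0, []), (2, []),
    (3, [0, 1, 2, 1, 0]), (3, [0, 1, 2, 0, 1, 0]), (0, []), (2, []), (0, []), (2, []), (3, [3, 0]),
    (3, [2, 1, 2]), (0, []), (0, []), (4, [2, 3]), (1, []), (0, []), (0, []), (0, []), (1, []), (0, []),
    (0, []), (0, [])]

def cert2 : List (ℕ × List ℕ) :=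
  [
    (4, [2, 3, 1]), (0, []), (1, []), (4, [3, 1, 2]), (4, [2, 0, 1, 2]), (0, []), (1, []), (0, []), (0, []),
    (2, []), (0, []), (0, []), (0, []), (2, []), (0, []), (0, []), (1, []), (3, [1, 2, 0, 1, 2]),
    (3, [2, 0, 1, 2, 1]), (2, []), (1, []), (3, [2, 0, 1, 2]), (0, []), (2, []), (0, []),
    (3, [1, 2, 0, 1, 2, 1]), (4, [2, 1, 2]), (0, []), (0, []), (1, []), (4, [2, 1, 2, 1]), (1, []), (0, []),
    (2, []), (3, [3]), (2, []), (0, []), (3, [2, 1, 2, 0]), (4, [2, 3, 0]), (0, []), (0, []), (1, []),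
    (0, []), (0, []), (0, []), (1, []), (0, []), (0, []), (0, []), (4, [2, 3, 1, 0]), (4, [3, 1, 2, 0]),
    (1, []), (0, []), (4, [2, 0, 1, 2, 0]), (0, []), (1, []), (2, []), (0, []), (0, []), (0, []), (2, []),
    (0, []), (0, []), (0, []), (3, [3, 2, 1, 2]), (1, []), (2, []), (3, [2, 0, 1, 2, 1, 0]),
    (3, [2, 0, 1, 2, 0]), (1, []), (2, []), (0, []), (3, [1, 2, 0, 1, 2, 1, 0]), (0, []), (0, []),
    (4, [2, 1, 2, 0]), (1, []), (0, []), (1, []), (4, [2, 1, 2, 1, 0]), (0, []), (1, []), (0, []), (2, []),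
    (2, []), (1, []), (0, []), (1, []), (2, []), (3, [2, 3, 0]), (3, [1, 2, 3]), (0, []), (2, []),
    (3, [2, 3, 2, 0]), (0, []), (0, []), (1, []), (3, [2, 3, 0, 1]), (3, [1, 2, 3, 2]), (0, []), (0, []),
    (2, []), (3, [1, 2, 3, 2, 1]), (2, []), (0, []), (2, []), (0, []), (0, []), (0, []), (2, []), (2, []),
    (1, []), (0, []), (2, []), (2, []), (2, []), (0, []), (2, []), (2, []), (2, []), (1, []), (2, []),
    (1, []), (3, [2, 3, 0, 1, 2]), (3, [2, 3, 0, 1, 2, 1]), (2, []), (1, []), (2, [])]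

def cert3 : List (ℕ × List ℕ) :=
  [
    (3, [3, 1]), (0, []), (0, []), (3, [3, 1, 0]), (2, []), (2, []), (0, []), (0, []), (4, [2, 3, 0, 1]),
    (0, []), (0, []), (1, []), (0, []), (0, []), (0, []), (4, [2, 3, 0, 1, 0]), (1, []), (0, []), (0, []),
    (0, []), (4, [3, 1, 2, 0, 1]), (1, []), (1, []), (4, [2, 0, 1, 2, 0, 1]), (0, []), (2, []), (2, []),
    (0, []), (0, []), (0, []), (3, [3, 2, 1, 2, 1]), (2, []), (0, []), (3, [2, 0, 1, 2, 0, 1, 0]), (0, []),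
    (1, []), (2, []), (3, [3, 2, 1, 2, 1, 0]), (3, [2, 0, 1, 2, 0, 1]), (0, []), (1, []), (0, []), (1, []),
    (1, []), (0, []), (4, [2, 1, 2, 0, 1, 0]), (4, [2, 1, 2, 0, 1]), (0, []), (1, []), (0, []), (2, []),
    (0, []), (1, []), (2, []), (1, []), (0, []), (3, [2, 3]), (2, []), (0, []), (3, [1, 2, 3, 0]),
    (3, [2, 3, 2]), (2, []), (0, []), (0, []), (3, [2, 3, 0, 1, 0]), (1, []), (0, []), (3, [1, 2, 3, 2, 0]),
    (2, []), (0, []), (2, []), (3, [1, 2, 3, 2, 1, 0]), (2, []), (0, []), (0, []), (0, []), (2, []), (0, []),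
    (1, []), (2, []), (2, []), (0, []), (2, []), (2, []), (2, []), (0, []), (2, []), (2, []), (2, []),
    (1, []), (3, [2, 3, 0, 1, 2, 0]), (1, []), (2, []), (3, [2, 3, 0, 1, 2, 1, 0]), (2, []), (1, []),
    (0, []), (0, []), (0, []), (0, []), (0, []), (0, []), (3, [3, 1, 2]), (0, []), (0, []), (2, []),
    (3, [3, 1, 2, 1]), (2, []), (0, []), (3, [3, 1, 2, 0]), (2, []), (0, []), (2, []), (3, [3, 1, 2, 1, 0]),
    (2, []), (2, []), (0, []), (3, [3, 1, 2, 0, 1, 0]), (3, [3, 1, 2, 0, 1]), (0, []), (4, [2, 3, 0, 1, 2]),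
    (0, []), (0, []), (4, [2, 3, 0, 1, 2, 0]), (1, []), (1, []), (0, []), (1, [])]

def cert4 : List (ℕ × List ℕ) :=
  [
    (4, [3, 1, 2, 0, 1, 2]), (1, []), (0, []), (4, [2, 1, 2, 0, 1, 2, 0]), (1, []), (0, []), (1, []),
    (4, [2, 1, 2, 0, 1, 2, 1]), (4, [2, 1, 2, 0, 1, 2]), (0, []), (0, []), (0, []), (0, []), (1, []),
    (1, []), (0, []), (2, []), (1, []), (1, []), (2, []), (0, []), (0, []), (3, [2, 3, 1]), (0, []), (1, []),
    (3, [2, 3, 2, 1, 0]), (0, []), (2, []), (0, []), (3, [2, 3, 1, 0]), (3, [2, 3, 2, 1]), (1, []), (2, []),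
    (0, []), (2, []), (2, []), (0, []), (3, [1, 2, 3, 2, 0, 1, 0]), (3, [1, 2, 3, 2, 0, 1]), (0, []),
    (0, []), (2, []), (2, []), (0, []), (0, []), (0, []), (2, []), (2, []), (1, []), (2, []), (2, []),
    (0, []), (2, []), (2, []), (2, []), (1, []), (0, []), (2, []), (2, []), (2, []),
    (3, [2, 3, 0, 1, 2, 0, 1]), (1, []), (1, []), (3, [2, 3, 0, 1, 2, 0, 1, 0]), (0, []), (0, []), (0, []),
    (0, []), (0, []), (0, []), (1, []), (4, [1, 2, 3, 2]), (4, [1, 2, 3, 2, 1]), (0, []), (1, []), (0, []),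
    (4, [1, 2, 3, 2, 0]), (1, []), (0, []), (4, [1, 2, 3, 2, 1, 0]), (0, []), (1, []), (0, []), (0, []),
    (4, [1, 2, 3, 2, 0, 1]), (1, []), (1, []), (4, [1, 2, 3, 2, 0, 1, 0]), (1, []),
    (3, [3, 2, 1, 2, 3, 2, 0]), (3, [3, 2, 1, 2, 3, 2]), (1, []), (2, []), (2, []),
    (3, [2, 0, 1, 2, 3, 1, 2]), (2, []), (1, []), (2, []), (3, [3, 2, 1, 2, 3, 2, 0, 1]), (1, []), (2, []),
    (3, [2, 0, 1, 2, 3, 1, 2, 0]), (2, []), (1, []), (1, []), (3, [2, 0, 1, 2, 3, 1, 2, 0, 1]), (1, []),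
    (1, []), (1, []), (1, []), (1, []), (1, []), (3, [2, 3, 1, 2]), (0, []), (0, []), (3, [2, 3, 1, 2, 0]),
    (2, []), (2, []), (2, []), (1, []), (0, []), (2, []), (2, []), (2, []), (1, []), (2, []), (2, []),
    (0, [])]

def cert5 : List (ℕ × List ℕ) :=
  [
    (2, []), (2, []), (0, []), (0, []), (1, []), (2, []), (2, []), (1, []), (1, []), (3, [2, 3, 2, 1, 2, 0]),
    (3, [2, 3, 2, 1, 2]), (1, []), (2, []), (2, []), (0, []), (2, []), (0, []),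
    (3, [1, 2, 3, 2, 0, 1, 2, 0]), (3, [2, 3, 1, 2, 0, 1, 2, 1]), (1, []), (2, []), (0, []),
    (3, [1, 2, 3, 2, 0, 1, 2]), (0, []), (1, []), (3, [2, 3, 1, 2, 0, 1, 2, 1, 0]), (0, []), (0, []),
    (2, []), (0, []), (0, []), (2, []), (1, []), (4, [1, 2, 3]), (4, [1, 2, 3, 0]), (1, []), (0, []),
    (0, []), (0, []), (0, []), (1, []), (3, [3, 2, 1, 2, 3, 0]), (3, [2, 0, 1, 2, 3, 1]), (2, []), (0, []),
    (0, []), (3, [3, 2, 1, 2, 3]), (1, []), (2, []), (3, [2, 0, 1, 2, 3, 1, 0]), (0, []), (0, []), (1, []),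
    (2, []), (2, []), (1, []), (4, [1, 2, 3, 2, 1, 2]), (0, []), (0, []), (4, [1, 2, 3, 2, 1, 2, 0]),
    (1, []), (1, []), (1, []), (0, []), (4, [1, 2, 3, 2, 0, 1, 2]), (1, []), (1, []), (1, []), (0, []),
    (1, []), (1, []), (4, [1, 2, 3, 2, 0, 1, 2, 0]), (1, []), (1, []), (2, []), (2, []),
    (3, [3, 2, 1, 2, 3, 2, 0, 1, 2]), (1, []), (1, []), (3, [2, 0, 1, 2, 3, 1, 2, 0, 1, 2]), (0, []),
    (2, []), (3, [2, 3, 1, 2, 1]), (2, []), (0, []), (3, [2, 3, 1, 2, 0, 1]), (0, []), (2, []), (2, []),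
    (2, []), (1, []), (2, []), (2, []), (2, []), (1, []), (2, []), (2, []), (0, []), (1, []), (2, []),
    (0, []), (1, []), (0, []), (2, []), (3, [2, 3, 2, 1, 2, 1]), (2, []), (1, []), (2, []),
    (3, [2, 3, 2, 1, 2, 0, 1]), (1, []), (0, []), (3, [2, 3, 1, 2, 0, 1, 2]), (0, []), (1, []), (2, []),
    (3, [1, 2, 3, 2, 0, 1, 2, 0, 1]), (3, [2, 3, 2, 1, 2, 0, 1, 2]), (1, []), (2, []),
    (3, [2, 3, 1, 2, 0, 1, 2, 0, 1, 0]), (0, []), (0, []), (2, []), (0, []), (0, []), (2, []), (0, []),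
    (0, [])]

def cert6 : List (ℕ × List ℕ) :=
  [
    (4, [1, 2, 3, 0, 1]), (0, []), (1, []), (0, []), (4, [1, 2, 3, 1]), (1, []), (1, []),
    (3, [2, 0, 1, 2, 3]), (0, []), (2, []), (0, []), (3, [3, 2, 1, 2, 3, 0, 1]), (3, [3, 2, 1, 2, 3, 1]),
    (2, []), (0, []), (3, [2, 0, 1, 2, 3, 0, 1, 0]), (0, []), (1, []), (1, []), (2, []), (0, []), (1, []),
    (0, []), (2, []), (0, []), (1, []), (4, [1, 2, 3, 2, 1, 2, 1]), (1, []), (0, []),
    (4, [1, 2, 3, 2, 1, 2, 0, 1]), (4, [2, 1, 2, 3, 1, 2]), (1, []), (1, []), (1, []), (0, []), (1, []),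
    (1, []), (1, []), (0, []), (1, []), (1, []), (4, [1, 2, 3, 2, 0, 1, 2, 0, 1]),
    (3, [3, 2, 1, 2, 3, 2, 0, 1, 2, 1]), (1, []), (2, []), (3, [2, 0, 1, 2, 3, 1, 2, 0, 1, 2, 1]), (2, []),
    (1, []), (2, []), (0, []), (2, []), (3, [2, 3, 1, 2, 1, 0]), (3, [2, 3, 1, 2, 0, 1, 0]), (0, []),
    (2, []), (0, []), (2, []), (2, []), (2, []), (1, []), (2, []), (2, []), (2, []), (1, []), (0, []),
    (2, []), (2, []), (1, []), (1, []), (0, []), (2, []), (0, []), (2, []), (3, [2, 3, 2, 1, 2, 1, 0]),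
    (2, []), (1, []), (1, []), (3, [2, 3, 2, 1, 2, 0, 1, 0]), (3, [2, 3, 1, 2, 0, 1, 2, 0]), (0, []),
    (1, []), (0, []), (3, [2, 3, 2, 1, 2, 0, 1, 2, 0, 1]), (2, []), (1, []),
    (3, [2, 3, 2, 1, 2, 0, 1, 2, 0]), (3, [2, 3, 1, 2, 0, 1, 2, 0, 1]), (2, []), (0, []), (0, []), (0, []),
    (2, []), (2, []), (0, []), (0, []), (0, []), (0, []), (4, [1, 2, 3, 0, 1, 0]), (0, []), (1, []), (1, []),
    (4, [1, 2, 3, 1, 0]), (3, [2, 0, 1, 2, 3, 0]), (1, []), (2, []), (0, []), (3, [3, 2, 1, 2, 3, 0, 1, 0]),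
    (0, []), (2, []), (3, [3, 2, 1, 2, 3, 1, 0]), (3, [2, 0, 1, 2, 3, 0, 1]), (0, []), (1, []), (0, []),
    (2, []), (1, []), (1, []), (0, []), (2, []), (0, []), (1, []), (0, []), (1, []),
    (4, [1, 2, 3, 2, 1, 2, 1, 0]), (4, [2, 1, 2, 0, 1, 2, 3]), (0, []), (1, []), (4, [2, 1, 2, 3, 1, 2, 0])]

def cert7 : List (ℕ × List ℕ) :=
  [
    (1, []), (1, []), (1, []), (0, []), (1, []), (1, []), (1, []), (0, []), (4, [2, 1, 2, 3, 1, 2, 0, 1]),
    (1, []), (1, []), (3, [3, 2, 1, 2, 3, 2, 0, 1, 2, 1, 0]), (3, [2, 0, 1, 2, 3, 1, 2, 0, 1, 2, 1, 0]),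
    (2, []), (1, []), (2, []), (1, []), (3, [2, 0, 1, 2, 3, 2]), (3, [2, 0, 1, 2, 3, 2, 1]), (2, []),
    (1, []), (2, []), (4, [2, 1, 2, 3]), (0, []), (0, []), (1, []), (4, [2, 1, 2, 3, 1]), (1, []), (1, []),
    (0, []), (4, [1, 2, 3, 1, 2, 1]), (1, []), (1, []), (1, []), (4, [1, 2, 3, 1, 2]), (1, []), (1, []),
    (1, []), (0, []), (1, []), (0, []), (2, []), (0, []), (3, [2, 0, 1, 2, 3, 0, 1, 2, 0]),
    (3, [3, 2, 1, 2, 3, 0, 1, 2, 1]), (1, []), (0, []), (3, [3, 2, 1, 2, 3, 0, 1, 2]), (0, []), (1, []),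
    (2, []), (3, [2, 0, 1, 2, 3, 0, 1, 2, 0, 1]), (0, []), (1, []), (0, []), (2, []), (2, []), (1, []),
    (0, []), (4, [1, 2, 3, 2, 1, 2, 0, 1, 2]), (0, []), (1, []), (1, []),
    (4, [1, 2, 3, 2, 1, 2, 0, 1, 2, 1]), (3, [2, 0, 1, 2, 3, 2, 0]), (1, []), (2, []),
    (3, [2, 0, 1, 2, 3, 2, 1, 0]), (2, []), (1, []), (0, []), (4, [2, 1, 2, 3, 0]), (1, []), (0, []),
    (1, []), (4, [2, 1, 2, 3, 1, 0]), (0, []), (1, []), (1, []), (4, [1, 2, 3, 1, 2, 1, 0]), (1, []),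
    (1, []), (1, []), (4, [1, 2, 3, 1, 2, 0]), (1, []), (1, []), (1, []), (0, []), (2, []), (0, []),
    (3, [2, 0, 1, 2, 3, 0, 1, 2]), (0, []), (1, []), (3, [3, 2, 1, 2, 3, 0, 1, 2, 1, 0]),
    (3, [3, 2, 1, 2, 3, 0, 1, 2, 0]), (0, []), (1, []), (0, []), (3, [2, 0, 1, 2, 3, 0, 1, 2, 0, 1, 0]),
    (2, []), (1, []), (0, []), (2, []), (0, []), (1, []), (2, []), (4, [2, 1, 2, 0, 1, 2, 3, 2]), (0, []),
    (1, []), (0, []), (4, [2, 1, 2, 3, 1, 2, 0, 1, 2]), (1, []), (2, []), (2, []),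
    (3, [2, 0, 1, 2, 3, 2, 0, 1]), (1, []), (1, []), (3, [2, 0, 1, 2, 3, 2, 0, 1, 0]), (1, []), (1, []),
    (0, []), (4, [2, 1, 2, 3, 0, 1, 0]), (4, [2, 1, 2, 3, 0, 1]), (0, []), (1, []), (1, []), (0, []),
    (1, [])]

def cert8 : List (ℕ × List ℕ) :=
  [
    (1, []), (4, [1, 2, 3, 1, 2, 0, 1, 0]), (1, []), (1, []), (1, []), (0, []), (4, [1, 2, 3, 1, 2, 0, 1]),
    (1, []), (3, [2, 0, 1, 2, 3, 0, 1, 2, 1]), (1, []), (2, []), (3, [3, 2, 1, 2, 3, 0, 1, 2, 0, 1, 0]),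
    (0, []), (0, []), (1, []), (3, [2, 0, 1, 2, 3, 0, 1, 2, 1, 0]), (3, [3, 2, 1, 2, 3, 0, 1, 2, 0, 1]),
    (2, []), (0, []), (0, []), (2, []), (1, []), (1, []), (2, []), (0, []), (0, []), (1, []),
    (4, [2, 1, 2, 3, 1, 2, 0, 1, 2, 1]), (4, [2, 1, 2, 0, 1, 2, 3, 2, 1]), (1, []), (0, []), (0, []),
    (1, []), (1, []), (1, []), (1, []), (1, []), (1, []), (2, []), (2, []),
    (3, [2, 0, 1, 2, 3, 2, 0, 1, 2, 1]), (1, []), (1, []), (3, [2, 0, 1, 2, 3, 2, 0, 1, 2, 1, 0]),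
    (3, [2, 0, 1, 2, 3, 2, 0, 1, 2]), (1, []), (2, []), (3, [2, 0, 1, 2, 3, 2, 0, 1, 2, 0, 1, 0]), (2, []),
    (1, []), (1, []), (3, [2, 0, 1, 2, 3, 2, 0, 1, 2, 0]), (3, [2, 0, 1, 2, 3, 2, 0, 1, 2, 0, 1]), (2, []),
    (1, []), (2, []), (0, []), (4, [2, 1, 2, 3, 0, 1, 2, 0]), (0, []), (1, []), (1, []),
    (4, [2, 1, 2, 3, 0, 1, 2, 0, 1]), (4, [2, 1, 2, 3, 0, 1, 2]), (0, []), (1, []), (0, []),
    (4, [1, 2, 3, 1, 2, 0, 1, 2, 0, 1]), (1, []), (1, []), (4, [1, 2, 3, 1, 2, 0, 1, 2, 0]),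
    (4, [1, 2, 3, 1, 2, 0, 1, 2]), (1, []), (0, []), (0, []), (0, []), (0, []), (0, []), (0, []), (0, []),
    (0, []), (0, []), (0, []), (0, []), (1, []), (1, []), (0, []), (0, []), (0, []), (2, []), (0, []),
    (0, []), (2, []), (2, []), (0, []), (0, []), (2, []), (0, []), (0, []), (0, []), (2, []), (2, []),
    (0, []), (0, []), (0, []), (0, []), (1, []), (0, []), (2, []), (2, []), (1, []), (1, []), (0, []),
    (2, []), (0, []), (1, []), (2, []), (2, []), (1, []), (1, []), (2, []), (0, []), (0, []), (0, []),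
    (0, []), (0, []), (0, []), (0, []), (0, [])]

/-- The certificate, in the order of the list of all words. -/
def cert : List (ℕ × List ℕ) :=
  cert0 ++ cert1 ++ cert2 ++ cert3 ++ cert4 ++ cert5 ++ cert6 ++ cert7 ++ cert8

end Cfsg.Lib.Chev.F4Graph
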