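import Cfsg.Agent.Lib.Chev.F4Graph.Checks
import Cfsg.Agent.Lib.Chev.AltSection.Torus
import Cfsg.Agent.Lib.Chev.SylowTorus

/-!
A Weyl word raising a torus element to its `q`-th power: the possible orders of `q` modulo the order of the element,
and regularity of the element for the words without smaller eigenvalue.
-/

set_option autoImplicit false
set_option linter.unusedSectionVars false
set_option maxRecDepth 100000

namespace Cfsg.Lib.Chev.F4Graph

open Cfsg.Lie Cfsg.Lib.Chev

private theorem cF : Cert chevF4 tblF4 := fullCertF4.comm.cert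

variable {L : Type*} [Field L]

/-- The `q`-th power relation between a word and a torus parameter. -/
def QAct (u : List ℕ) (c : Fin chevF4.rank → Lˣ) (q : ℕ) : Prop :=
  ∀ r < chevF4.nroots, uchr cF c (wperm tblF4 u r) = uchr cF c r ^ q

theorem uchr_mul (a b : Fin chevF4.rank → Lˣ) (r : ℕ) : uchr cF (a * b) r = uchr cF a r * uchr cF b r := by
  simp only [uchr, Pi.mul_apply, mul_zpow, Finset.prod_mul_distrib]

theorem uchr_one (r : ℕ) : uchr cF (1 : Fin chevF4.rank → Lˣ) r = 1 := by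
  simp [uchr]

theorem uchr_pow (a : Fin chevF4.rank → Lˣ) (m r : ℕ) : uchr cF (a ^ m) r = uchr cF a r ^ m := by
  induction m with
  | zero => simp only [pow_zero, uchr_one]
  | succ m ih => rw [pow_succ, pow_succ, uchr_mul, ih]

theorem torusHom_eq_iff {c c' : Fin chevF4.rank → Lˣ} :
    torusHom chevF4 tblF4 L c = torusHom chevF4 tblF4 L c' ↔ ∀ r < chevF4.nroots, uchr cF c r = uchr cF c' r := by
  refine ⟨fun h r hr => Units.ext ?_, fun h => torusHom_congr fun r hr => ?_⟩
  · rw [coe_uchr, coe_uchr]; exact chr_eq_of_torusHom cF h hr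
  · rw [← coe_uchr cF, ← coe_uchr cF, h r hr]

theorem torusHom_inj : Function.Injective (torusHom chevF4 tblF4 L) :=
  torusHom_injective_scalar cF inv_F4 fun x hx => by simpa using hx

/-- A nontrivial parameter of prime order is nontrivial on a simple root, with value of that order. -/
theorem exists_simple {c : Fin chevF4.rank → Lˣ} {s : ℕ} (hs : s.Prime) (hcs : c ^ s = 1) (hc : c ≠ 1) :
    ∃ k < chevF4.rank, orderOf (uchr cF c (tblF4.simp' k)) = s := by
  haveI := Fact.mk hs
  by_contra hno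
  refine hc (torusHom_inj ((MonoidHom.mem_ker (f := torusHom chevF4 tblF4 L)).1 ?_ |>.trans (map_one _).symm))
  rw [torusHom_ker cF, MonoidHom.mem_ker]
  funext k
  show ∏ j, c j ^ cartanMat chevF4 tblF4 k j = 1
  by_contra hk
  refine hno ⟨k, k.2, orderOf_eq_prime ?_ hk⟩
  rw [← uchr_pow, hcs, uchr_one]

theorem iter_qact {u : List ℕ} (hu : IsWord chevF4 u) {c : Fin chevF4.rank → Lˣ} {q : ℕ} (h : QAct u c q) :
    ∀ (m r : ℕ), r < chevF4.nroots →
      uchr cF c ((fun x => wperm tblF4 u x)^[m] r) = uchr cF c r ^ (q ^ m) := by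
  intro m
  induction m with
  | zero => intro r _; simp
  | succ m ih =>
    intro r hr
    rw [Function.iterate_succ_apply, ih _ (wperm_lt cF hu hr), h r hr, ← pow_mul, pow_succ']

/-- The value at `q` of a monic quartic. -/
noncomputable def quartic (P : List ℤ) (q : ℤ) : ℤ :=
  q ^ 4 + nth 0 P 3 * q ^ 3 + nth 0 P 2 * q ^ 2 + nth 0 P 1 * q + nth 0 P 0

theorem quartic_zero {u : List ℕ} (hu : IsWord chevF4 u) {c : Fin chevF4.rank → Lˣ} {q : ℕ} (h : QAct u c q)
    {i r : ℕ} (hr : r < chevF4.nroots) (hi : annAt u i r = true) :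
    uchr cF c r ^ quartic (nth [] polys i) q = 1 := by
  simp only [annAt, allBelow_iff, decide_eq_true_eq] at hi
  set P := nth [] polys i
  have h1 := iter_qact hu h 1 r hr
  have h2 := iter_qact hu h 2 r hr
  have h3 := iter_qact hu h 3 r hr
  have h4 := iter_qact hu h 4 r hr
  simp only [Function.iterate_succ_apply', Function.iterate_zero_apply] at h1 h2 h3 h4
  set χ := uchr cF c r with hχ
  calc χ ^ quartic P q = χ ^ (((q ^ 4 : ℕ) : ℤ)) * (χ ^ (((q ^ 3 : ℕ) : ℤ))) ^ nth 0 P 3 *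
        (χ ^ (((q ^ 2 : ℕ) : ℤ))) ^ nth 0 P 2 * (χ ^ (((q ^ 1 : ℕ) : ℤ))) ^ nth 0 P 1 * χ ^ nth 0 P 0 := by
        simp only [← zpow_mul, ← zpow_add, quartic, Nat.cast_pow, pow_one]
        congr 1; ring
    _ = 1 := by
        simp only [zpow_natCast]
        rw [← h4, ← h3, ← h2, ← h1, hχ]
        simp only [uchr, ← Finset.prod_zpow, ← Finset.prod_mul_distrib, ← zpow_mul, ← zpow_add]
        refine Finset.prod_eq_one fun j _ => ?_
        have hj := hi j j.2
        rw [show ∀ a b e f g : ℤ, a + b + e + f + g = 0 → c j ^ (a + b + e + f + g) = 1 from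
          fun a b e f g h0 => by rw [h0, zpow_zero]]
        linear_combination hj

theorem allIdx_mem {α : Type} {f : ℕ → α → Bool} {l : List α} (h : allIdx f l 0 = true) {x : α} (hx : x ∈ l) :
    ∃ i, f i x = true := by
  obtain ⟨i, hi, rfl⟩ := List.getElem_of_mem hx
  exact ⟨i, by simpa using (allIdx_iff l 0).1 h i hi⟩

theorem annAt_congr {u v : List ℕ} (hu : IsWord chevF4 u) (h : SamePerm chevF4 tblF4 u v) {i r : ℕ}
    (hr : r < chevF4.nroots) : annAt u i r = annAt v i r := by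
  have h1 := wperm_lt cF hu hr
  have h2 := wperm_lt cF hu h1
  have h3 := wperm_lt cF hu h2
  simp only [annAt, ← h _ hr, ← h _ h1, ← h _ h2, ← h _ h3]

theorem word_of_check {z : List ℕ} (hz : allBelow (fun i => Nat.blt (nth 0 z i) 4) z.length = true) :
    IsWord chevF4 z := by
  intro x hx
  obtain ⟨k, hk, rfl⟩ := List.getElem_of_mem hx
  have := allBelow_iff.1 hz k hk
  rw [Nat.blt_eq, nth_eq, List.getD_eq_getElem _ _ hk] at this
  exact this

/-- The representative of a type. -/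
def repTor (i : ℕ) : TorData := if i = 3 then torF4 else torTwelve

theorem torOK_rep (i : ℕ) : TorOK chevF4 tblF4 (repTor i) := by
  rw [repTor]; split
  · exact torOK_of_chk cF _ chkTor_F4
  · exact torOK_of_chk cF _ chkTor_twelve

/-- Every word has a number of a polynomial, and a conjugator when that number is three or four. -/
theorem word_type {u : List ℕ} (hu : IsWord chevF4 u) :
    ∃ i < 5, (∀ k < chevF4.rank, annAt u i (tblF4.simp' k) = true) ∧
      (i = 3 ∨ i = 4 → ∃ z, IsWord chevF4 z ∧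
        SamePerm chevF4 tblF4 (z ++ u) ((repTor i).w ++ z)) := by
  obtain ⟨v, hv, hperm⟩ := allW_complete cF fullCertF4 chkWeylF4 _ le_rfl u hu
  have hvw : IsWord chevF4 v := (allW_below cF fullCertF4 chkWeylF4 _ le_rfl _ hv).isWord le_rfl
  obtain ⟨n, hn⟩ := allIdx_mem chkWord_all hv
  simp only [chkWord, Bool.and_eq_true, Nat.blt_eq, allBelow_iff] at hn
  obtain ⟨hi, hann, hzw, hconj⟩ := hn
  refine ⟨_, hi, fun k hk => ?_, fun h34 => ?_⟩
  · rw [← annAt_congr hvw hperm (cF.spec.simp_lt k hk)]; exact hann k hk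
  · have hz : IsWord chevF4 (nth (0, []) cert n).2 :=
      word_of_check (allBelow_iff.2 fun k hk => by rw [Nat.blt_eq]; exact hzw k hk)
    refine ⟨_, hz, samePerm_of_simple cF fullCertF4 (hz.append hu) ((torOK_rep _).isWord.append hz) fun k hk => ?_⟩
    rw [wperm_append, wperm_append, ← hperm _ (cF.spec.simp_lt k hk)]
    have hc := hconj k hk
    rcases h34 with e | e <;> rw [e] at hc ⊢
    · simpa [repTor, conjAt] using hc.1
    · simpa [repTor, conjAt] using hc.2

/-- The number of a word sees the order of every parameter it raises to its power. -/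
theorem dvd_quartic {u : List ℕ} (hu : IsWord chevF4 u) {i : ℕ}
    (hi : ∀ k < chevF4.rank, annAt u i (tblF4.simp' k) = true) {c : Fin chevF4.rank → Lˣ} {q s : ℕ} (hs : s.Prime)
    (hcs : c ^ s = 1) (hc : c ≠ 1) (h : QAct u c q) : (s : ℤ) ∣ quartic (nth [] polys i) q := by
  obtain ⟨k, hk, hord⟩ := exists_simple hs hcs hc
  rw [← hord, orderOf_dvd_iff_zpow_eq_one]
  exact quartic_zero hu h (cF.spec.simp_lt k hk) (hi k hk)

/-! ### Regularity -/

theorem norm_eight_dvd {s a b c d q : ℤ} (h1 : s ∣ a + b * q + c * q ^ 2 + d * q ^ 3) (h2 : s ∣ q ^ 4 + 1) :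
    s ∣ normEight a b c d := by
  set A := a * a - c * c + 2 * b * d
  set B := 2 * a * c - b * b + d * d
  have h3 : s ∣ A + B * q ^ 2 := by
    rw [show A + B * q ^ 2 = (a + b * q + c * q ^ 2 + d * q ^ 3) * (a - b * q + c * q ^ 2 - d * q ^ 3) -
      (c * c - 2 * b * d - d * d * q ^ 2) * (q ^ 4 + 1) by ring]
    exact dvd_sub (dvd_mul_of_dvd_left h1 _) (dvd_mul_of_dvd_right h2 _)
  rw [show normEight a b c d = (A + B * q ^ 2) * (A - B * q ^ 2) + B ^ 2 * (q ^ 4 + 1) by
    simp only [normEight, A, B]; ring]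
  exact dvd_add (dvd_mul_of_dvd_left h3 _) (dvd_mul_of_dvd_right h2 _)

theorem norm_twelve_dvd {s a b c d q : ℤ} (h1 : s ∣ a + b * q + c * q ^ 2 + d * q ^ 3)
    (h2 : s ∣ q ^ 4 - q ^ 2 + 1) : s ∣ normTwelve a b c d := by
  set A := a * a - c * c + 2 * b * d + d * d
  set B := 2 * a * c + c * c - b * b - 2 * b * d
  have h3 : s ∣ A + B * q ^ 2 := by
    rw [show A + B * q ^ 2 = (a + b * q + c * q ^ 2 + d * q ^ 3) * (a - b * q + c * q ^ 2 - d * q ^ 3) -
      (c * c - 2 * b * d - d * d - d * d * q ^ 2) * (q ^ 4 - q ^ 2 + 1) by ring]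
    exact dvd_sub (dvd_mul_of_dvd_left h1 _) (dvd_mul_of_dvd_right h2 _)
  rw [show normTwelve a b c d = (A + B * q ^ 2) * (A + B - B * q ^ 2) + B ^ 2 * (q ^ 4 - q ^ 2 + 1) by
    simp only [normTwelve, A, B]; ring]
  exact dvd_add (dvd_mul_of_dvd_left h3 _) (dvd_mul_of_dvd_right h2 _)

/-- What the checks give for a representative. -/
structure RegData (S : TorData) (N : ℤ → ℤ → ℤ → ℤ → ℤ) : Prop where
  tor : TorOK chevF4 tblF4 S
  dvd : ∀ {s a b c d q : ℤ}, s ∣ a + b * q + c * q ^ 2 + d * q ^ 3 → s ∣ quartic S.tg q → s ∣ N a b c d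
  root : allBelow (chkRoot S N) 48 = true
  sep : allIdx (fun _ u => chkSep S N u) (allW (nth ([], []) weylF4) 4) 0 = true

theorem regData (i : ℕ) : ∃ N, RegData (repTor i) N := by
  rw [repTor]; split
  · refine ⟨normEight, torOK_of_chk cF _ chkTor_F4, fun h1 h2 => norm_eight_dvd h1 ?_, chkRoot_eight, chkSep_eight⟩
    simpa [quartic, torF4, nth_eq] using h2
  · refine ⟨normTwelve, torOK_of_chk cF _ chkTor_twelve, fun h1 h2 => norm_twelve_dvd h1 ?_, chkRoot_twelve,
      chkSep_twelve⟩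
    simpa [quartic, torTwelve, nth_eq, sub_eq_add_neg] using h2

theorem smooth_free {s : ℕ} (hs : s.Prime) (h5 : 5 ≤ s) : ¬ s ∣ smooth := by
  intro h
  have h6 : s ∣ 6 := hs.dvd_of_dvd_pow h
  have := Nat.le_of_dvd (by norm_num) h6
  interval_cases s <;> norm_num at *

theorem ord_quartic (S : TorData) (q : ℤ) : S.ord tblF4 q = quartic S.tg q := by
  rw [TorData.ord, sumBelow_eq, show tblF4.rank = 4 from rfl]
  simp [quartic, Finset.sum_range_succ]
  ring

theorem expo_four (S : TorData) (q : ℤ) (r : ℕ) : S.expo tblF4 q r =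
    S.coef tblF4 r 0 + S.coef tblF4 r 1 * q + S.coef tblF4 r 2 * q ^ 2 + S.coef tblF4 r 3 * q ^ 3 := by
  rw [TorData.expo, sumBelow_eq, show tblF4.rank = 4 from rfl]
  simp [Finset.sum_range_succ]

/-- A parameter of prime order at least five raised to its power by a representative is a power of one value. -/
theorem uchr_eq_zpow {S : TorData} (hS : TorOK chevF4 tblF4 S) {c : Fin chevF4.rank → Lˣ} {q : ℕ}
    (h : QAct S.w c q) {r : ℕ} (hr : r < chevF4.nroots) :
    uchr cF c r = uchr cF c S.r0 ^ S.expo tblF4 q r := by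
  have horb : ∀ k : ℕ, uchr cF c (S.orb tblF4 k) = uchr cF c S.r0 ^ ((q : ℤ) ^ k) := by
    intro k
    induction k with
    | zero => rw [pow_zero, zpow_one]; rfl
    | succ k ih =>
      rw [show S.orb tblF4 (k + 1) = wperm tblF4 S.w (S.orb tblF4 k) from rfl, h _ (orb_lt cF hS k), ih,
        ← zpow_natCast, ← zpow_mul, pow_succ]
  calc uchr cF c r = ∏ k ∈ Finset.range chevF4.rank, uchr cF c (S.orb tblF4 k) ^ S.coef tblF4 r k := by
        simp only [uchr, ← Finset.prod_zpow]
        rw [Finset.prod_comm]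
        refine Finset.prod_congr rfl fun j _ => ?_
        rw [hS.cart r hr j j.2]
        generalize Finset.range chevF4.rank = s
        induction s using Finset.induction with
        | empty => simp
        | insert a s ha ih => rw [Finset.sum_insert ha, Finset.prod_insert ha, zpow_add, ih, mul_comm (S.coef tblF4 r a), zpow_mul]
    _ = _ := by
        simp only [horb, ← zpow_mul, TorData.expo, sumBelow_eq, cF.spec.shape.rank_eq]
        generalize Finset.range chevF4.rank = s
        induction s using Finset.induction with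
        | empty => simp
        | insert a s ha ih => rw [Finset.sum_insert ha, Finset.prod_insert ha, zpow_add, ih, mul_comm (_ ^ a)]

theorem regular {S : TorData} {N : ℤ → ℤ → ℤ → ℤ → ℤ} (hS : RegData S N) {c : Fin chevF4.rank → Lˣ} {q s : ℕ}
    (hs : s.Prime) (h5 : 5 ≤ s) (hcs : c ^ s = 1) (hc : c ≠ 1) (h : QAct S.w c q)
    (hq : (s : ℤ) ∣ quartic S.tg q) :
    (∀ r < chevF4.nroots, chr tblF4 chevF4 (extend' c) r ≠ 1) ∧
      ∀ v, IsWord chevF4 v → (∀ k < chevF4.rank, chr tblF4 chevF4 (extend' c) (wperm tblF4 v (tblF4.simp' k)) =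
        chr tblF4 chevF4 (extend' c) (tblF4.simp' k)) →
        ∀ k < chevF4.rank, wperm tblF4 v (tblF4.simp' k) = tblF4.simp' k := by
  haveI := Fact.mk hs
  set w₀ := uchr cF c S.r0 with hw₀
  have hpow := fun r hr => uchr_eq_zpow hS.tor h (r := r) hr
  have hord : orderOf w₀ = s := by
    refine orderOf_eq_prime (by rw [hw₀, ← uchr_pow, hcs, uchr_one]) fun e => hc (torusHom_inj ?_)
    rw [torusHom_eq_iff]
    intro r hr
    rw [hpow r hr, ← hw₀, e, one_zpow, uchr_one]
  have hdvd : ∀ a b, w₀ ^ a = w₀ ^ b ↔ (s : ℤ) ∣ a - b := fun a b => by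
    rw [← hord, orderOf_dvd_iff_zpow_eq_one, zpow_sub, mul_inv_eq_one]
  have hnorm : ∀ a b e f : ℤ, (s : ℤ) ∣ a + b * q + e * (q : ℤ) ^ 2 + f * (q : ℤ) ^ 3 → s ∣ (N a b e f).natAbs :=
    fun a b e f hd => Int.natCast_dvd.1 (hS.dvd hd hq)
  refine ⟨fun r hr e => ?_, fun v hv hfix k hk => ?_⟩
  · have e1 : uchr cF c r = 1 := Units.ext (by rw [coe_uchr, Units.val_one, e])
    rw [hpow r hr, ← hw₀, ← zpow_zero w₀, hdvd, sub_zero, expo_four] at e1
    have h1 : smooth % normOf (fun k => S.coef tblF4 r k) N = 0 := Nat.eq_of_beq_eq_true (allBelow_iff.1 hS.root r hr)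
    exact smooth_free hs h5 ((hnorm _ _ _ _ e1).trans (Nat.dvd_of_mod_eq_zero h1))
  · obtain ⟨u, hu, hperm⟩ := allW_complete cF fullCertF4 chkWeylF4 _ le_rfl v hv
    obtain ⟨_, hchk⟩ := allIdx_mem hS.sep hu
    rw [← hperm _ (cF.spec.simp_lt k hk)]
    have hall : ∀ i < 4, (s : ℤ) ∣ diffC S u i 0 + diffC S u i 1 * q + diffC S u i 2 * (q : ℤ) ^ 2 +
        diffC S u i 3 * (q : ℤ) ^ 3 := by
      intro i hi
      have hi' : tblF4.simp' i < chevF4.nroots := cF.spec.simp_lt i hi
      have huw : IsWord chevF4 u := (allW_below cF fullCertF4 chkWeylF4 _ le_rfl _ hu).isWord le_rfl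
      have e1 : uchr cF c (wperm tblF4 u (tblF4.simp' i)) = uchr cF c (tblF4.simp' i) :=
        Units.ext (by rw [coe_uchr, coe_uchr, hperm _ hi', hfix i hi])
      rw [hpow _ (wperm_lt cF huw hi'), hpow _ hi', hdvd, expo_four, expo_four] at e1
      convert e1 using 1
      simp only [diffC]; ring
    have hG : s ∣ Nat.gcd (Nat.gcd (normOf (diffC S u 0) N) (normOf (diffC S u 1) N))
        (Nat.gcd (normOf (diffC S u 2) N) (normOf (diffC S u 3) N)) :=
      Nat.dvd_gcd (Nat.dvd_gcd (hnorm _ _ _ _ (hall 0 (by omega))) (hnorm _ _ _ _ (hall 1 (by omega))))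
        (Nat.dvd_gcd (hnorm _ _ _ _ (hall 2 (by omega))) (hnorm _ _ _ _ (hall 3 (by omega))))
    simp only [chkSep, Bool.or_eq_true, Bool.and_eq_true, Nat.beq_eq] at hchk
    rcases hchk with h1 | h1 | ⟨h1, h2⟩
    · exact Nat.eq_of_beq_eq_true (allBelow_iff.1 h1 k hk)
    · exact absurd (hG.trans (Nat.dvd_of_mod_eq_zero h1)) (smooth_free hs h5)
    · exfalso
      have h13 : s = 13 := (Nat.prime_dvd_prime_iff_eq hs (by norm_num)).1
        (((Nat.Prime.dvd_mul hs).1 (hG.trans (Nat.dvd_of_mod_eq_zero h1))).resolve_right (smooth_free hs h5))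
      subst h13
      have hq13 : (q % 13 : ℕ) < 13 := Nat.mod_lt _ (by norm_num)
      have hmod : ((q % 13 : ℕ) : ℤ) ≡ (q : ℤ) [ZMOD 13] := by rw [Int.natCast_mod]; exact Int.mod_modEq _ _
      have hz : ∀ a0 a1 a2 a3 : ℤ, (13 : ℤ) ∣ a0 + a1 * q + a2 * (q : ℤ) ^ 2 + a3 * (q : ℤ) ^ 3 →
          (a0 + a1 * ((q % 13 : ℕ) : ℤ) + a2 * ((q % 13 : ℕ) : ℤ) ^ 2 + a3 * ((q % 13 : ℕ) : ℤ) ^ 3) % 13 = 0 := by
        intro a0 a1 a2 a3 hd
        exact Eq.trans ((((Int.ModEq.refl a0).add ((Int.ModEq.refl a1).mul hmod)).add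
          ((Int.ModEq.refl a2).mul (hmod.pow 2))).add ((Int.ModEq.refl a3).mul (hmod.pow 3)))
          (Int.emod_eq_zero_of_dvd hd)
      have h3 := allBelow_iff.1 h2 _ hq13
      simp only [Bool.or_eq_true, Bool.not_eq_true', decide_eq_false_iff_not] at h3
      rcases h3 with h3 | h3
      · refine h3 ?_
        exact Eq.trans (((((hmod.pow 4).add ((Int.ModEq.refl (nth 0 S.tg 3)).mul (hmod.pow 3))).add
          ((Int.ModEq.refl (nth 0 S.tg 2)).mul (hmod.pow 2))).add ((Int.ModEq.refl (nth 0 S.tg 1)).mul hmod)).add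
          (Int.ModEq.refl (nth 0 S.tg 0))) (Int.emod_eq_zero_of_dvd hq)
      · simp only [zeroMod, Bool.and_eq_false_iff, decide_eq_false_iff_not] at h3
        rcases h3 with h3 | h3 | h3 | h3
        · exact h3 (hz _ _ _ _ (hall 0 (by omega)))
        · exact h3 (hz _ _ _ _ (hall 1 (by omega)))
        · exact h3 (hz _ _ _ _ (hall 2 (by omega)))
        · exact h3 (hz _ _ _ _ (hall 3 (by omega)))

end Cfsg.Lib.Chev.F4Graph
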